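import Mathlib

/-!
# Computations in the alternating group of degree five
-/

set_option autoImplicit false

namespace Cfsg.Agent.Lib.DiffFour

theorem alt_involutions_conj : ∀ x : alternatingGroup (Fin 5), x * x = 1 → x ≠ 1 →
    ∃ z : alternatingGroup (Fin 5),
      ((z * x * z⁻¹ : alternatingGroup (Fin 5)) : Equiv.Perm (Fin 5)) =
        Equiv.swap 0 1 * Equiv.swap 2 3 := by
  decide +kernel

theorem alt_commuting_involution : ∀ x : alternatingGroup (Fin 5), x * x = 1 → x ≠ 1 →
    ∃ y : alternatingGroup (Fin 5), y * y = 1 ∧ y ≠ 1 ∧ y ≠ x ∧ x * y = y * x := by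
  decide +kernel

theorem alt_two_element : ∀ x : alternatingGroup (Fin 5), x * x * (x * x) = 1 → x * x = 1 := by
  decide +kernel

end Cfsg.Agent.Lib.DiffFour
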