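import Cfsg.Agent.Lib.DiffFour.Three
import Cfsg.Agent.Lib.Chars.PResidualDegree
import Cfsg.Agent.Lib.Chars.Completeness
import Cfsg.Agent.Lib.CharsElem

/-!
# Groups with an element `u` whose nonzero character values differ from the degree by four
-/

set_option autoImplicit false
set_option linter.unusedSectionVars false

namespace Cfsg.Agent.Lib.DiffFour

open scoped ComplexConjugate
open Cfsg
open Cfsg.Agent.Lib.Chars

universe u

variable {G : Type u} [Group G]

/-- The hypothesis on `u`. -/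
structure Hyp (u : G) : Prop where
  ne_one : u ≠ 1
  val : ∀ χ : IrrCharacter G, (χ : G → ℂ) ≠ (fun _ => (1 : ℂ)) →
    ((χ : G → ℂ) 1 - (χ : G → ℂ) u = 4 ∨ (χ : G → ℂ) u = 0)

/-- The degree of an irreducible character. -/
noncomputable abbrev deg (χ : IrrCharacter G) : ℕ := charDegree (χ : G → ℂ)

variable [Finite G]

theorem apply_one_eq (χ : IrrCharacter G) : (χ : G → ℂ) 1 = (deg χ : ℂ) := (charDegree_spec χ).2

theorem deg_pos (χ : IrrCharacter G) : 0 < deg χ := (charDegree_spec χ).1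

theorem eq_deg_of_apply_one {χ : IrrCharacter G} {n : ℕ} (h : (χ : G → ℂ) 1 = n) : deg χ = n := by
  have h' := (apply_one_eq χ).symm.trans h
  exact_mod_cast h'

theorem norm_irr_le (χ : IrrCharacter G) (g : G) : ‖(χ : G → ℂ) g‖ ≤ (deg χ : ℝ) := by
  cases nonempty_fintype G
  obtain ⟨n, ρ, hρ, hχ⟩ := χ.2
  have h := norm_char_le ρ g
  have h1 : (χ : G → ℂ) 1 = (Module.finrank ℂ (Fin n → ℂ) : ℂ) := by rw [← hχ]; exact ρ.char_one
  rw [hχ] at h
  rwa [eq_deg_of_apply_one h1]

theorem exists_rep_deg (χ : IrrCharacter G) {d : ℕ} (hd : deg χ = d) :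
    ∃ ρ : Representation ℂ G (Fin d → ℂ), ρ.IsIrreducible ∧ ρ.character = (χ : G → ℂ) := by
  obtain ⟨n, ρ, hρ, hχ⟩ := χ.2
  have h1 : (χ : G → ℂ) 1 = (n : ℂ) := by
    rw [← hχ, ρ.char_one, Module.finrank_fintype_fun_eq_card, Fintype.card_fin]
  have hn : n = d := (eq_deg_of_apply_one h1).symm.trans hd
  subst hn
  exact ⟨ρ, hρ, hχ⟩

/-- A nontrivial group has a nontrivial irreducible character. -/
theorem exists_irr_ne_one [Nontrivial G] :
    ∃ χ : IrrCharacter G, (χ : G → ℂ) ≠ fun _ => (1 : ℂ) := by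
  classical
  cases nonempty_fintype G
  by_contra! hall
  have h : ∑ χ : IrrCharacter G, (χ : G → ℂ) 1 ^ 2 = (Nat.card G : ℂ) := sum_degree_sq
  have hu : ∀ χ : IrrCharacter G, χ = trivialIrr G := fun χ => Subtype.ext (hall χ)
  rw [Fintype.sum_eq_single (trivialIrr G) fun χ hne => absurd (hu χ) hne] at h
  simp only [trivialIrr_apply, one_pow] at h
  have h' : Nat.card G = 1 := by exact_mod_cast h.symm
  exact absurd h' Finite.one_lt_card.ne'

namespace Hyp

variable {u : G} (H : Hyp u)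

include H

theorem apply_u {χ : IrrCharacter G} (hχ : (χ : G → ℂ) ≠ fun _ => (1 : ℂ)) :
    (χ : G → ℂ) u = 0 ∨ (χ : G → ℂ) u = (deg χ : ℂ) - 4 := by
  rcases H.val χ hχ with h | h
  · exact Or.inr (by rw [apply_one_eq] at h; linear_combination -h)
  · exact Or.inl h

theorem apply_u_ne_deg {χ : IrrCharacter G} (hχ : (χ : G → ℂ) ≠ fun _ => (1 : ℂ)) :
    (χ : G → ℂ) u ≠ (χ : G → ℂ) 1 := by
  intro h
  rcases H.val χ hχ with h' | h'
  · rw [h, sub_self] at h'; norm_num at h'
  · exact irr_apply_one_ne_zero χ (h.symm.trans h')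

theorem normal_eq_top (N : Subgroup G) [N.Normal] (hu : u ∈ N) : N = ⊤ := by
  by_contra hN
  have : Nontrivial (G ⧸ N) := by
    rw [← not_subsingleton_iff_nontrivial]
    exact fun h => hN (Subgroup.index_eq_one.mp (Nat.card_eq_one_iff_unique.mpr ⟨h, inferInstance⟩))
  obtain ⟨ψ, hψ⟩ := exists_irr_ne_one (G := G ⧸ N)
  have hne : (inflate N ψ : G → ℂ) ≠ fun _ => (1 : ℂ) := by
    intro h
    refine hψ (funext fun x => ?_)
    obtain ⟨g, rfl⟩ := QuotientGroup.mk'_surjective N x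
    exact congrFun h g
  refine H.apply_u_ne_deg hne ?_
  show (ψ : G ⧸ N → ℂ) (u : G ⧸ N) = (ψ : G ⧸ N → ℂ) ((1 : G) : G ⧸ N)
  rw [(QuotientGroup.eq_one_iff u).2 hu, QuotientGroup.mk_one]

theorem deg_ne_one {χ : IrrCharacter G} (hχ : (χ : G → ℂ) ≠ fun _ => (1 : ℂ)) : deg χ ≠ 1 := by
  intro hd
  have h1 : (χ : G → ℂ) 1 = 1 := by rw [apply_one_eq, hd, Nat.cast_one]
  obtain ⟨φ, hφ⟩ := exists_hom_of_degree_one (irr_isCharacter χ) h1
  have hn : ‖(χ : G → ℂ) u‖ = 1 := by rw [hφ]; exact norm_hom_apply φ u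
  rcases H.apply_u hχ with h | h <;> rw [h] at hn
  · simp at hn
  · rw [hd] at hn; norm_num at hn

theorem perfect : commutator G = ⊤ := by
  classical
  by_contra hne
  have : Nontrivial (G ⧸ commutator G) := by
    rw [← not_subsingleton_iff_nontrivial]
    exact fun h => hne (Subgroup.index_eq_one.mp (Nat.card_eq_one_iff_unique.mpr ⟨h, inferInstance⟩))
  have : IsMulCommutative (G ⧸ commutator G) :=
    ⟨⟨fun (x y : Abelianization G) => mul_comm x y⟩⟩
  obtain ⟨ψ, hψ⟩ := exists_irr_ne_one (G := G ⧸ commutator G)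
  have hne' : (inflate (commutator G) ψ : G → ℂ) ≠ fun _ => (1 : ℂ) := by
    intro h
    refine hψ (funext fun x => ?_)
    obtain ⟨g, rfl⟩ := QuotientGroup.mk'_surjective (commutator G) x
    exact congrFun h g
  refine H.deg_ne_one hne' (eq_deg_of_apply_one ?_)
  show (ψ : G ⧸ commutator G → ℂ) ((1 : G) : G ⧸ commutator G) = ((1 : ℕ) : ℂ)
  rw [QuotientGroup.mk_one, irr_apply_one_of_comm, Nat.cast_one]

theorem two_le {χ : IrrCharacter G} (hχ : (χ : G → ℂ) ≠ fun _ => (1 : ℂ)) : 2 ≤ deg χ := by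
  have := deg_pos χ
  have := H.deg_ne_one hχ
  omega

theorem deg_ne_two {χ : IrrCharacter G} (hχ : (χ : G → ℂ) ≠ fun _ => (1 : ℂ))
    (hu0 : (χ : G → ℂ) u ≠ 0) : deg χ ≠ 2 := by
  classical
  cases nonempty_fintype G
  intro hd
  have hv : (χ : G → ℂ) u = -2 := by
    rcases H.apply_u hχ with h | h
    · exact absurd h hu0
    · rw [h, hd]; norm_num
  obtain ⟨ρ, hρ, hχρ⟩ := exists_rep_deg χ hd
  have hsc : ∀ g, (∀ v, ρ g v = v) ∨ (∀ v, ρ g v = -v) := by
    let N : Subgroup G :=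
      { carrier := {g | (∀ v, ρ g v = v) ∨ (∀ v, ρ g v = -v)}
        one_mem' := Or.inl fun v => by simp
        mul_mem' := by
          rintro a b (ha | ha) (hb | hb)
          · exact Or.inl fun v => by rw [map_mul, Module.End.mul_apply, hb, ha]
          · exact Or.inr fun v => by rw [map_mul, Module.End.mul_apply, hb, ha]
          · exact Or.inr fun v => by rw [map_mul, Module.End.mul_apply, hb, ha]
          · exact Or.inl fun v => by rw [map_mul, Module.End.mul_apply, hb, ha, neg_neg]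
        inv_mem' := by
          intro a ha
          have h1 : ∀ v, ρ a⁻¹ (ρ a v) = v := fun v => by
            rw [← Module.End.mul_apply, ← map_mul, inv_mul_cancel, map_one, Module.End.one_apply]
          rcases ha with ha | ha
          · exact Or.inl fun v => by conv_lhs => rw [← ha v]
                                     rw [h1]
          · refine Or.inr fun v => ?_
            have h2 := h1 v
            rw [ha, map_neg, neg_eq_iff_eq_neg] at h2
            exact h2 }
    have : N.Normal := ⟨fun a ha g => by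
      have hgg : ∀ v, ρ g (ρ g⁻¹ v) = v := fun v => by
        rw [← Module.End.mul_apply, ← map_mul, mul_inv_cancel, map_one, Module.End.one_apply]
      rcases ha with ha | ha
      · exact Or.inl fun v => by rw [map_mul, map_mul, Module.End.mul_apply, Module.End.mul_apply, ha, hgg]
      · exact Or.inr fun v => by
          rw [map_mul, map_mul, Module.End.mul_apply, Module.End.mul_apply, ha, map_neg, hgg]⟩
    have huN : u ∈ N := by
      refine Or.inr ?_
      obtain ⟨ι, hι, b, μ, hμ, hb⟩ := exists_eigenbasis ρ u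
      have hcard : Fintype.card ι = 2 := by
        rw [← Module.finrank_eq_card_basis b, Module.finrank_fintype_fun_eq_card, Fintype.card_fin]
      have hsum : ∑ i, μ i = -2 := by
        rw [← hv, ← hχρ]; exact (trace_eq_sum_of_eigenbasis (ρ u) b μ hb).symm
      have hre : ∀ i, -1 ≤ (μ i).re := fun i => by
        have h1 := norm_eq_one_of_pow_eq_one (orderOf_pos u) (hμ i)
        have h2 := Complex.abs_re_le_norm (μ i)
        rw [h1, abs_le] at h2
        exact h2.1
      have hsre : ∑ i, ((μ i).re + 1) = 0 := by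
        rw [Finset.sum_add_distrib, ← Complex.re_sum, hsum]
        simp [hcard]
      have hz := (Finset.sum_eq_zero_iff_of_nonneg fun i _ => by linarith [hre i]).1 hsre
      suffices hh : ρ u = ((-1 : ℂ) • (1 : Module.End ℂ (Fin 2 → ℂ))) from fun v => by
        rw [hh]; simp
      refine b.ext fun i => ?_
      have h1 := norm_eq_one_of_pow_eq_one (orderOf_pos u) (hμ i)
      have h2 : (μ i).re = -1 := by linarith [hz i (Finset.mem_univ i)]
      have h3 : (μ i).im = 0 := by
        have h4 : Complex.normSq (μ i) = 1 := by rw [Complex.normSq_eq_norm_sq, h1]; norm_num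
        rw [Complex.normSq_apply, h2] at h4
        nlinarith
      rw [hb, show μ i = -1 from Complex.ext (by simp [h2]) (by simp [h3])]
      simp
    intro g
    have hg : g ∈ N := by rw [H.normal_eq_top N huN]; exact Subgroup.mem_top g
    exact hg
  have hn : classInner (χ : G → ℂ) (χ : G → ℂ) = 1 := classInner_irr_self χ
  have hval : ∀ g, (χ : G → ℂ) g * conj ((χ : G → ℂ) g) = 4 := fun g => by
    rw [← hχρ]
    rcases hsc g with h | h
    · rw [Representation.character, show ρ g = (1 : Module.End ℂ (Fin 2 → ℂ)) from LinearMap.ext h,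
        LinearMap.trace_one, Module.finrank_fintype_fun_eq_card, Fintype.card_fin]
      norm_num [map_ofNat]
    · rw [Representation.character,
        show ρ g = (-1 : ℂ) • (1 : Module.End ℂ (Fin 2 → ℂ)) from LinearMap.ext fun v => by rw [h]; simp,
        map_smul, LinearMap.trace_one, Module.finrank_fintype_fun_eq_card, Fintype.card_fin]
      norm_num [map_ofNat]
  simp only [classInner, hval, Finset.sum_const, Finset.card_univ, nsmul_eq_mul,
    Fintype.card_eq_nat_card] at hn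
  rw [← mul_assoc, inv_mul_cancel₀ natCard_ne_zero, one_mul] at hn
  norm_num at hn

theorem three_le {χ : IrrCharacter G} (hχ : (χ : G → ℂ) ≠ fun _ => (1 : ℂ))
    (hu0 : (χ : G → ℂ) u ≠ 0) : 3 ≤ deg χ := by
  have := H.two_le hχ
  have := H.deg_ne_two hχ hu0
  omega

theorem ne_one_of_deg {χ : IrrCharacter G} (h : 2 ≤ deg χ) : (χ : G → ℂ) ≠ fun _ => (1 : ℂ) := by
  intro he
  have : deg χ = 1 := eq_deg_of_apply_one (by rw [he]; simp)
  omega

end Hyp

/-- The characters of degree three with value minus one at `u`. -/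
def IsA (u : G) (χ : IrrCharacter G) : Prop := deg χ = 3 ∧ (χ : G → ℂ) u = -1

theorem IsA.apply_one {u : G} {χ : IrrCharacter G} (h : IsA u χ) : (χ : G → ℂ) 1 = 3 := by
  rw [apply_one_eq, h.1]; norm_num

theorem IsA.conj {u : G} {χ : IrrCharacter G} (h : IsA u χ) : IsA u (irrConj χ) :=
  ⟨eq_deg_of_apply_one (by rw [irrConj_apply, apply_one_eq, h.1]; simp [map_ofNat]),
    by rw [irrConj_apply, h.2]; simp⟩

namespace Hyp

variable {u : G} (H : Hyp u)

include H

theorem IsA_sq_formula {χ : IrrCharacter G} (hd : deg χ = 3) (g : G) :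
    (χ : G → ℂ) (g * g) = (χ : G → ℂ) g * (χ : G → ℂ) g - 2 * conj ((χ : G → ℂ) g) := by
  obtain ⟨ρ, hρ, hχ⟩ := exists_rep_deg χ hd
  rw [← hχ]
  exact char_sq_three ρ H.perfect g

theorem IsA_sq_u {χ : IrrCharacter G} (hA : IsA u χ) : (χ : G → ℂ) (u * u) = 3 := by
  rw [H.IsA_sq_formula hA.1, hA.2, map_neg, map_one]; norm_num

/-- No irreducible character of degree two vanishes at `u` and is trivial at its square. -/
theorem deg_ne_two_of_sq {χ : IrrCharacter G} (h0 : (χ : G → ℂ) u = 0)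
    (hsq : (χ : G → ℂ) (u * u) = (χ : G → ℂ) 1) : deg χ ≠ 2 := by
  intro hd
  cases nonempty_fintype G
  obtain ⟨ρ, hρ, hχ⟩ := exists_rep_deg χ hd
  rw [← hχ] at h0 hsq
  have h1 : matHom ρ u * matHom ρ u = 1 := by
    rw [← map_mul]
    show LinearMap.toMatrix' (ρ (u * u)) = 1
    rw [(rep_eq_one_iff ρ _).2 hsq]
    exact LinearMap.toMatrix'_one
  have htr : (matHom ρ u).trace = 0 := by rw [trace_matHom]; exact h0
  have hdet := det_eq_one ρ H.perfect u
  have h00 := congrFun (congrFun h1 0) 0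
  simp only [Matrix.mul_apply, Fin.sum_univ_two, Matrix.one_apply_eq] at h00
  simp only [Matrix.trace, Fin.sum_univ_two, Matrix.diag] at htr
  rw [Matrix.det_fin_two] at hdet
  have : (2 : ℂ) = 0 := by
    linear_combination -(h00 + hdet) + matHom ρ u 0 0 * htr
  norm_num at this

/-- The decomposition of a character of degree nine with value one at `u`. -/
theorem options [Fintype G] {X : G → ℂ} (hX : IsCharacter G X) (h1 : X 1 = 9) (hu : X u = 1)
    (h2 : X (u * u) = 9) (htriv : classInner X (fun _ => (1 : ℂ)) = 0) :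
    ∃ P Q : IrrCharacter G, X = (P : G → ℂ) + (Q : G → ℂ) ∧
      ((deg P = 6 ∧ (P : G → ℂ) u = 2 ∧ IsA u Q) ∨
        (deg P = 5 ∧ (P : G → ℂ) u = 1 ∧ deg Q = 4 ∧ (Q : G → ℂ) u = 0)) := by
  classical
  obtain ⟨m, hm⟩ := isCharacter_exists_nat_decomp hX
  have hm1 : m (trivialIrr G) = 0 := by
    have h := classInner_sum_smul_irr (fun χ => (m χ : ℂ)) (trivialIrr G)
    rw [← hm] at h
    have h' : (m (trivialIrr G) : ℂ) = 0 := h.symm.trans htriv
    exact_mod_cast h'
  have hne : ∀ χ, m χ ≠ 0 → (χ : G → ℂ) ≠ fun _ => (1 : ℂ) := fun χ hχ he =>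
    hχ (by rw [show χ = trivialIrr G from Subtype.ext he]; exact hm1)
  have happ : ∀ g, X g = ∑ χ, (m χ : ℂ) * (χ : G → ℂ) g := fun g => by
    rw [hm]; simp [Finset.sum_apply]
  have hd9 : ∑ χ, m χ * deg χ = 9 := by
    have h := (happ 1).symm.trans h1
    simp only [apply_one_eq] at h
    exact_mod_cast h
  have hsq : ∀ χ, m χ ≠ 0 → (χ : G → ℂ) (u * u) = (χ : G → ℂ) 1 := by
    intro χ hχ
    have hnn : ∀ ψ : IrrCharacter G, 0 ≤ (m ψ : ℝ) * ((deg ψ : ℝ) - ((ψ : G → ℂ) (u * u)).re) :=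
      fun ψ => mul_nonneg (Nat.cast_nonneg _)
        (sub_nonneg.2 ((Complex.re_le_norm _).trans (norm_irr_le ψ _)))
    have hz : ∑ ψ : IrrCharacter G, (m ψ : ℝ) * ((deg ψ : ℝ) - ((ψ : G → ℂ) (u * u)).re) = 0 := by
      have h := congrArg Complex.re ((happ (u * u)).symm.trans h2)
      simp only [Complex.re_sum, Complex.mul_re, Complex.natCast_re, Complex.natCast_im, zero_mul,
        sub_zero, Complex.re_ofNat] at h
      simp only [mul_sub, Finset.sum_sub_distrib, h]
      have h' : (∑ ψ : IrrCharacter G, (m ψ : ℝ) * (deg ψ : ℝ)) = 9 := by exact_mod_cast hd9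
      linarith
    have h := (Finset.sum_eq_zero_iff_of_nonneg fun ψ _ => hnn ψ).1 hz χ (Finset.mem_univ χ)
    rcases mul_eq_zero.1 h with h | h
    · exact absurd (by exact_mod_cast h) hχ
    · have hre : ((χ : G → ℂ) (u * u)).re = (deg χ : ℝ) := by linarith
      have hn := norm_irr_le χ (u * u)
      have him : ((χ : G → ℂ) (u * u)).im = 0 := by
        have h3 := Complex.sq_norm ((χ : G → ℂ) (u * u))
        rw [Complex.normSq_apply, hre] at h3
        have h4 : ‖(χ : G → ℂ) (u * u)‖ ^ 2 ≤ (deg χ : ℝ) ^ 2 := by gcongr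
        nlinarith
      rw [apply_one_eq]
      exact Complex.ext (by simpa using hre) (by simpa using him)
  have hthree : ∀ χ, m χ ≠ 0 → 3 ≤ deg χ := by
    intro χ hχ
    by_cases h0 : (χ : G → ℂ) u = 0
    · have := H.two_le (hne χ hχ)
      have := H.deg_ne_two_of_sq h0 (hsq χ hχ)
      omega
    · exact H.three_le (hne χ hχ) h0
  -- integral values
  have hc : ∀ χ, ∃ c : ℤ, m χ ≠ 0 → (χ : G → ℂ) u = c ∧ (c = 0 ∨ c = (deg χ : ℤ) - 4) := by
    intro χ
    by_cases h0 : m χ = 0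
    · exact ⟨0, fun h => absurd h0 h⟩
    rcases H.apply_u (hne χ h0) with h | h
    · exact ⟨0, fun _ => ⟨by simpa using h, Or.inl rfl⟩⟩
    · exact ⟨(deg χ : ℤ) - 4, fun _ => ⟨by simpa using h, Or.inr rfl⟩⟩
  choose c hc using hc
  have hc1 : ∑ χ, (m χ : ℤ) * c χ = 1 := by
    have h := (happ u).symm.trans hu
    rw [Finset.sum_congr rfl (fun χ _ => show (m χ : ℂ) * (χ : G → ℂ) u = (m χ : ℂ) * (c χ : ℂ) by
      by_cases h0 : m χ = 0
      · simp [h0]
      · rw [(hc χ h0).1])] at h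
    exact_mod_cast h
  obtain ⟨P, -, hP⟩ : ∃ P ∈ (Finset.univ : Finset (IrrCharacter G)), 0 < (m P : ℤ) * c P :=
    Finset.exists_lt_of_sum_lt (f := fun _ => (0 : ℤ)) (by simp [hc1])
  have hmP : m P ≠ 0 := fun h => by simp [h] at hP
  have hcP : 0 < c P := pos_of_mul_pos_right hP (Nat.cast_nonneg _)
  have hcP' : c P = (deg P : ℤ) - 4 := (hc P hmP).2.resolve_left hcP.ne'
  have hleP : m P * deg P ≤ 9 :=
    hd9 ▸ Finset.single_le_sum (f := fun χ => m χ * deg χ) (fun _ _ => Nat.zero_le _) (Finset.mem_univ P)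
  have hmP1 : m P = 1 := by
    by_contra h
    have : 2 * deg P ≤ m P * deg P := Nat.mul_le_mul_right _ (by omega)
    omega
  rw [← Finset.add_sum_erase _ _ (Finset.mem_univ P)] at hd9 hc1
  rw [hmP1, one_mul] at hd9 hleP
  rw [hmP1, Nat.cast_one, one_mul, hcP'] at hc1
  have hex : ∃ Q ∈ Finset.univ.erase P, m Q ≠ 0 := by
    by_contra! hall
    rw [Finset.sum_eq_zero (fun χ hχ => by simp [hall χ hχ])] at hd9 hc1
    omega
  obtain ⟨Q, hQm, hQ⟩ := hex
  have hleQ : m Q * deg Q ≤ ∑ χ ∈ Finset.univ.erase P, m χ * deg χ :=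
    Finset.single_le_sum (f := fun χ => m χ * deg χ) (fun _ _ => Nat.zero_le _) hQm
  have hmQ1 : m Q = 1 := by
    by_contra h
    have : 2 * deg Q ≤ m Q * deg Q := Nat.mul_le_mul_right _ (by omega)
    have := hthree Q hQ
    omega
  rw [hmQ1, one_mul] at hleQ
  have hrest : ∀ χ, χ ≠ P → χ ≠ Q → m χ = 0 := by
    intro χ h1 h2
    by_contra h
    have h' : m χ * deg χ + m Q * deg Q ≤ ∑ χ ∈ Finset.univ.erase P, m χ * deg χ :=
      Finset.add_le_sum (f := fun χ => m χ * deg χ) (fun _ _ => Nat.zero_le _)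
        (Finset.mem_erase.2 ⟨h1, Finset.mem_univ χ⟩) hQm h2
    rw [hmQ1, one_mul] at h'
    have : deg χ ≤ m χ * deg χ := Nat.le_mul_of_pos_left _ (by omega)
    have := hthree χ h
    have := hthree Q hQ
    omega
  rw [Finset.sum_eq_single Q (fun χ hχ hne => by simp [hrest χ (Finset.ne_of_mem_erase hχ) hne])
    (fun h => absurd hQm h)] at hd9 hc1
  simp only [hmQ1, one_mul, Nat.cast_one] at hd9 hc1
  have hQP : Q ≠ P := Finset.ne_of_mem_erase hQm
  refine ⟨P, Q, ?_, ?_⟩
  · funext g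
    rw [happ, ← Finset.add_sum_erase _ _ (Finset.mem_univ P),
      Finset.sum_eq_single Q (fun χ hχ hne => by simp [hrest χ (Finset.ne_of_mem_erase hχ) hne])
        (fun h => absurd hQm h)]
    simp [hmP1, hmQ1]
  · obtain ⟨hQu, hQc⟩ := hc Q hQ
    have h3Q := hthree Q hQ
    rcases (by omega : (deg P = 6 ∧ deg Q = 3 ∧ c Q = -1) ∨ (deg P = 5 ∧ deg Q = 4 ∧ c Q = 0)) with
      ⟨a, b, e⟩ | ⟨a, b, e⟩
    · exact Or.inl ⟨a, by rw [(hc P hmP).1, hcP', a]; norm_num, b, by rw [hQu, e]; norm_num⟩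
    · exact Or.inr ⟨a, by rw [(hc P hmP).1, hcP', a]; norm_num, b, by rw [hQu, e]; norm_num⟩

theorem options_mul [Fintype G] {χ σ : IrrCharacter G} (hχ : IsA u χ) (hσ : IsA u σ)
    (hne : χ ≠ irrConj σ) :
    ∃ P Q : IrrCharacter G, (fun g => (χ : G → ℂ) g * (σ : G → ℂ) g) = (P : G → ℂ) + (Q : G → ℂ) ∧
      ((deg P = 6 ∧ (P : G → ℂ) u = 2 ∧ IsA u Q) ∨
        (deg P = 5 ∧ (P : G → ℂ) u = 1 ∧ deg Q = 4 ∧ (Q : G → ℂ) u = 0)) := by
  refine H.options (isCharacter_mul (irr_isCharacter χ) (irr_isCharacter σ)) ?_ ?_ ?_ ?_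
  · show (χ : G → ℂ) 1 * (σ : G → ℂ) 1 = 9
    rw [hχ.apply_one, hσ.apply_one]; norm_num
  · show (χ : G → ℂ) u * (σ : G → ℂ) u = 1
    rw [hχ.2, hσ.2]; norm_num
  · show (χ : G → ℂ) (u * u) * (σ : G → ℂ) (u * u) = 9
    rw [H.IsA_sq_u hχ, H.IsA_sq_u hσ]; norm_num
  · rw [← classInner_irr_of_ne hne]
    simp only [classInner, irrConj_apply, Complex.conj_conj, map_one, mul_one]

end Hyp

end Cfsg.Agent.Lib.DiffFour
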