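import Cfsg.Agent.Lib.DiffFour.Fibre
import Cfsg.Agent.S0494
import Cfsg.Agent.S3378

/-!
# Counting: the icosahedral quotient and the order of the centraliser of `u`
-/

set_option autoImplicit false
set_option linter.unusedSectionVars false

namespace Cfsg.Agent.Lib.DiffFour

open scoped ComplexConjugate
open Cfsg
open Cfsg.Agent.Lib.Chars

universe u

variable {G : Type u} [Group G] [Finite G]

open Classical in
/-- The non-principal characters not vanishing at `u`. -/
noncomputable def supp (u : G) : Finset (IrrCharacter G) :=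
  Finset.univ.filter fun χ => (χ : G → ℂ) ≠ (fun _ => (1 : ℂ)) ∧ (χ : G → ℂ) u ≠ 0

theorem mem_supp {u : G} {χ : IrrCharacter G} :
    χ ∈ supp u ↔ (χ : G → ℂ) ≠ (fun _ => (1 : ℂ)) ∧ (χ : G → ℂ) u ≠ 0 := by
  simp [supp]

/-- The degree times the value at `u`. -/
noncomputable def wt (χ : IrrCharacter G) : ℤ := (deg χ : ℤ) * ((deg χ : ℤ) - 4)

/-- A simple group of order sixty from a perfect group of order sixty. -/
theorem isSimple_of_perfect_sixty (Q : Type u) [Group Q] [Finite Q] (hperf : commutator Q = ⊤)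
    (h60 : Nat.card Q = 60) : IsSimpleGroup Q := by
  have : Nontrivial Q := Finite.one_lt_card_iff_nontrivial.mp (by omega)
  refine ⟨fun N hN => ?_⟩
  by_contra h
  push Not at h
  have h1 : 1 < Nat.card N := (Subgroup.one_lt_card_iff_ne_bot N).mpr h.1
  have h2 : 1 < N.index := by
    have := Subgroup.index_ne_zero_of_finite (H := N)
    have := mt Subgroup.index_eq_one.mp h.2
    omega
  have hmul := N.card_mul_index
  rw [h60] at hmul
  have : Group.IsSolvable N := Cfsg.Agent.S3378.isSolvable_of_card_lt _ N rfl (by nlinarith)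
  have : Group.IsSolvable (Q ⧸ N) :=
    Cfsg.Agent.S3378.isSolvable_of_card_lt _ (Q ⧸ N) rfl (by rw [← Subgroup.index_eq_card]; nlinarith)
  have hs : Group.IsSolvable Q := Group.isSolvable_of_ker_le_range N.subtype (QuotientGroup.mk' N)
    (by rw [QuotientGroup.ker_mk', Subgroup.range_subtype])
  exact absurd hperf (ne_of_lt (Group.IsSolvable.commutator_lt_top_of_nontrivial Q))

theorem not_perfect_small {J : Type u} [Group J] [Finite J] {n : ℕ} (h : Nat.card J = n)
    (hn : 1 < n ∧ n < 60) : commutator J ≠ ⊤ := by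
  have : Nontrivial J := Finite.one_lt_card_iff_nontrivial.mp (by omega)
  have : Group.IsSolvable J := Cfsg.Agent.S3378.isSolvable_of_card_lt n J h hn.2
  exact ne_of_lt (Group.IsSolvable.commutator_lt_top_of_nontrivial J)

/-- An irreducible representation descends to a quotient by a subgroup of its kernel. -/
theorem irreducible_descends {n : ℕ} (ρ : Representation ℂ G (Fin n → ℂ)) [ρ.IsIrreducible]
    (N : Subgroup G) [N.Normal] (hker : N ≤ MonoidHom.ker ρ) :
    Representation.IsIrreducible (QuotientGroup.lift N ρ hker : Representation ℂ (G ⧸ N) (Fin n → ℂ)) := by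
  let f : Subrepresentation (QuotientGroup.lift N ρ hker : Representation ℂ (G ⧸ N) (Fin n → ℂ)) ≃o
      Subrepresentation ρ :=
    { toFun := fun S => ⟨S.toSubmodule, fun g v hv => S.apply_mem_toSubmodule (g : G ⧸ N) hv⟩
      invFun := fun S => ⟨S.toSubmodule, fun x v hv => by
        induction x using QuotientGroup.induction_on with
        | _ g => exact S.apply_mem_toSubmodule g hv⟩
      left_inv := fun _ => rfl
      right_inv := fun _ => rfl
      map_rel_iff' := Iff.rfl }
  exact f.isSimpleOrder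

theorem alt_involution_centralizer : ∀ x : alternatingGroup (Fin 5), x * x = 1 → x ≠ 1 →
    (Finset.univ.filter fun y : alternatingGroup (Fin 5) => y * x = x * y).card = 4 := by
  decide +kernel

namespace Hyp

variable {u : G} (H : Hyp u)

include H

theorem supp_cases {χ : IrrCharacter G} (h : χ ∈ supp u) :
    (χ : G → ℂ) u = (deg χ : ℂ) - 4 ∧ (IsA u χ ∨ 5 ≤ deg χ) := by
  rw [mem_supp] at h
  have hv := (H.apply_u h.1).resolve_left h.2
  have h3 := H.three_le h.1 h.2
  refine ⟨hv, ?_⟩
  rcases (by omega : deg χ = 3 ∨ deg χ = 4 ∨ 5 ≤ deg χ) with h' | h' | h'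
  · exact Or.inl ⟨h', by rw [hv, h']; norm_num⟩
  · exact absurd (by rw [hv, h']; norm_num) h.2
  · exact Or.inr h'

theorem sum_supp : ∑ χ ∈ supp u, wt χ = -1 := by
  classical
  cases nonempty_fintype G
  have h : ∑ χ : IrrCharacter G, (χ : G → ℂ) 1 * (χ : G → ℂ) u = if u = 1 then (Nat.card G : ℂ) else 0 :=
    sum_degree_mul_irr u
  rw [if_neg H.ne_one, ← Finset.add_sum_erase _ _ (Finset.mem_univ (trivialIrr G))] at h
  simp only [trivialIrr_apply, one_mul] at h
  have h2 : ∑ χ ∈ Finset.univ.erase (trivialIrr G), (χ : G → ℂ) 1 * (χ : G → ℂ) u =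
      ∑ χ ∈ supp u, (χ : G → ℂ) 1 * (χ : G → ℂ) u := by
    symm
    refine Finset.sum_subset (fun χ hχ => Finset.mem_erase.2 ⟨fun e => (mem_supp.1 hχ).1 (by rw [e]; rfl),
      Finset.mem_univ χ⟩) fun χ hχ hn => ?_
    have h0 : (χ : G → ℂ) u = 0 := by
      by_contra h0
      exact hn (mem_supp.2 ⟨fun e => Finset.ne_of_mem_erase hχ (Subtype.ext e), h0⟩)
    rw [h0, mul_zero]
  rw [h2, Finset.sum_congr rfl fun (χ : IrrCharacter G) hχ => show (χ : G → ℂ) 1 * (χ : G → ℂ) u = ((wt χ : ℤ) : ℂ) by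
    rw [(H.supp_cases hχ).1, apply_one_eq, wt]; push_cast; ring] at h
  have h' : (1 : ℤ) + ∑ χ ∈ supp u, wt χ = 0 := by exact_mod_cast h
  omega

/-- A set of characters without real members of degree three has nonnegative weight. -/
theorem weight_nonneg (U : Finset (IrrCharacter G)) (hU : U ⊆ supp u)
    (hreal : ∀ χ ∈ U, IsA u χ → irrConj χ ≠ χ)
    (hsq : ∀ χ ∈ U, IsA u χ → ∀ P : IrrCharacter G, deg P = 6 → (P : G → ℂ) u = 2 →
      (∀ g, (P : G → ℂ) g = (χ : G → ℂ) g * (χ : G → ℂ) g - conj ((χ : G → ℂ) g)) → P ∈ U) :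
    0 ≤ ∑ χ ∈ U, wt χ ∧ (∑ χ ∈ U, wt χ = 0 → U = ∅) := by
  classical
  set N := U.filter fun χ => IsA u χ
  set F := U.filter fun χ => ¬ IsA u χ
  have hex : ∀ χ : IrrCharacter G, ∃ P : IrrCharacter G, χ ∈ N → P ∈ F ∧ deg P = 6 ∧
      ∀ g, (P : G → ℂ) g = (χ : G → ℂ) g * (χ : G → ℂ) g - conj ((χ : G → ℂ) g) := by
    intro χ
    by_cases hχ : χ ∈ N
    · obtain ⟨hχU, hA⟩ := Finset.mem_filter.1 hχ
      obtain ⟨P, h6, hPu, hP⟩ := H.exists_sq hA (hreal χ hχU hA)
      refine ⟨P, fun _ => ⟨Finset.mem_filter.2 ⟨hsq χ hχU hA P h6 hPu hP, fun h => ?_⟩, h6, hP⟩⟩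
      rw [h.1] at h6
      omega
    · exact ⟨χ, fun h => absurd h hχ⟩
  choose sq hsq' using hex
  have hfib : ∀ P ∈ N.image sq, (N.filter fun χ => sq χ = P).card ≤ 2 := by
    intro P _
    by_contra hlt
    push Not at hlt
    obtain ⟨a, b, c, ha, hb, hc, hab, hac, hbc⟩ := Finset.two_lt_card_iff.1 hlt
    obtain ⟨haN, rfl⟩ := Finset.mem_filter.1 ha
    obtain ⟨hbN, hbe⟩ := Finset.mem_filter.1 hb
    obtain ⟨hcN, hce⟩ := Finset.mem_filter.1 hc
    refine H.no_triple (Finset.mem_filter.1 haN).2 (Finset.mem_filter.1 hbN).2 (Finset.mem_filter.1 hcN).2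
      hab hbc hac.symm (hsq' a haN).2.1 (hsq' a haN).2.2 ?_ ?_
    · rw [← hbe]; exact (hsq' b hbN).2.2
    · rw [← hce]; exact (hsq' c hcN).2.2
  have hcardN := Finset.card_le_mul_card_image N 2 hfib
  have himg : N.image sq ⊆ F := fun P hP => by
    obtain ⟨χ, hχ, rfl⟩ := Finset.mem_image.1 hP
    exact (hsq' χ hχ).1
  have hsumN : ∑ χ ∈ N, wt χ = -3 * (N.card : ℤ) := by
    rw [Finset.sum_congr rfl fun χ hχ => show wt χ = (-3 : ℤ) by
      rw [wt, (Finset.mem_filter.1 hχ).2.1]; norm_num, Finset.sum_const, nsmul_eq_mul, mul_comm]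
  have hpos : ∀ χ ∈ F, 5 ≤ wt χ := by
    intro χ hχ
    obtain ⟨hχU, hn⟩ := Finset.mem_filter.1 hχ
    have h5 := ((H.supp_cases (hU hχU)).2).resolve_left hn
    rw [wt]; nlinarith
  have hsumI : ∑ χ ∈ N.image sq, wt χ = 12 * ((N.image sq).card : ℤ) := by
    rw [Finset.sum_congr rfl fun P hP => show wt P = (12 : ℤ) by
      obtain ⟨χ, hχ, rfl⟩ := Finset.mem_image.1 hP
      rw [wt, (hsq' χ hχ).2.1]; norm_num, Finset.sum_const, nsmul_eq_mul, mul_comm]
  have hsumF := Finset.sum_sdiff (f := wt) himg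
  have hrest : 5 * ((F \ N.image sq).card : ℤ) ≤ ∑ χ ∈ F \ N.image sq, wt χ := by
    have h := Finset.card_nsmul_le_sum (F \ N.image sq) wt 5 fun χ hχ => hpos χ (Finset.mem_sdiff.1 hχ).1
    rw [nsmul_eq_mul] at h
    linarith
  have hsplit : ∑ χ ∈ U, wt χ = ∑ χ ∈ N, wt χ + ∑ χ ∈ F, wt χ :=
    (Finset.sum_filter_add_sum_filter_not U _ _).symm
  have hc : (N.card : ℤ) ≤ 2 * ((N.image sq).card : ℤ) := by exact_mod_cast hcardN
  refine ⟨by omega, fun h0 => ?_⟩
  have hN0 : N.card = 0 := by omega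
  have hI0 : (N.image sq).card = 0 := by omega
  have hR0 : (F \ N.image sq).card = 0 := by omega
  rw [Finset.card_eq_zero] at hN0 hI0 hR0
  rw [hI0, Finset.sdiff_empty] at hR0
  rw [← Finset.filter_union_filter_not_eq (fun χ => IsA u χ) U]
  show N ∪ F = ∅
  rw [hN0, hR0, Finset.union_empty]

theorem exists_real : ∃ r : IrrCharacter G, IsA u r ∧ irrConj r = r := by
  by_contra! h
  have hw := (H.weight_nonneg (supp u) (Finset.Subset.refl _) (fun χ _ hA => h χ hA)
    fun χ _ _ P h6 hPu _ => mem_supp.2 ⟨H.ne_one_of_deg (by omega), by rw [hPu]; norm_num⟩).1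
  rw [H.sum_supp] at hw
  omega

theorem quotient_hyp (K : Subgroup G) [K.Normal] (hu : u ∉ K) : Hyp (u : G ⧸ K) := by
  refine ⟨fun h => hu ((QuotientGroup.eq_one_iff u).1 h), fun ψ hψ => ?_⟩
  have hne : (inflate K ψ : G → ℂ) ≠ fun _ => (1 : ℂ) := by
    intro h
    refine hψ (funext fun x => ?_)
    obtain ⟨g, rfl⟩ := QuotientGroup.mk'_surjective K x
    exact congrFun h g
  exact H.val (inflate K ψ) hne

/-- The icosahedral quotient, and the order of the centraliser of `u`. -/
theorem main : ∃ (K : Subgroup G) (_ : K.Normal), u ∉ K ∧ u * u ∈ K ∧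
    Nonempty (G ⧸ K ≃* alternatingGroup (Fin 5)) ∧
    Nat.card (Subgroup.centralizer ({u} : Set G)) = 4 := by
  classical
  cases nonempty_fintype G
  obtain ⟨r, hr, hrr⟩ := H.exists_real
  obtain ⟨ρ, hρ, hρχ⟩ := exists_rep_deg r hr.1
  set K := MonoidHom.ker ρ with hK
  have hKmem : ∀ g, g ∈ K ↔ (r : G → ℂ) g = 3 := fun g => by
    rw [hK, MonoidHom.mem_ker, rep_eq_one_iff, hρχ, hr.apply_one]
  have huK : u ∉ K := by rw [hKmem, hr.2]; norm_num
  have hu2 : u * u ∈ K := by rw [hKmem]; exact H.IsA_sq_u hr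
  have HQ := H.quotient_hyp K huK
  let σ : Representation ℂ (G ⧸ K) (Fin 3 → ℂ) := QuotientGroup.lift K ρ le_rfl
  have hσi : σ.IsIrreducible := irreducible_descends ρ K le_rfl
  have hfaith : ∀ x, σ x = 1 → x = 1 := by
    intro x
    induction x using QuotientGroup.induction_on with
    | _ g => exact fun h => (QuotientGroup.eq_one_iff g).2 h
  have hreal : ∀ x, (σ.character x).im = 0 := by
    intro x
    induction x using QuotientGroup.induction_on with
    | _ g =>
      show (ρ.character g).im = 0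
      rw [hρχ]
      refine Complex.conj_eq_iff_im.1 ?_
      rw [← irrConj_apply, hrr]
  have h60 : Nat.card (G ⧸ K) = 60 := by
    rcases card_eq_sixty σ HQ.perfect hreal hfaith with h | h | h
    · exact absurd HQ.perfect (not_perfect_small h (by norm_num))
    · exact absurd HQ.perfect (not_perfect_small h (by norm_num))
    · exact h
  have hsimp : IsSimpleGroup (G ⧸ K) := isSimple_of_perfect_sixty _ HQ.perfect h60
  obtain ⟨e⟩ := Cfsg.Agent.S0494.result h60
  -- a real member of `IsA` is trivial on `K`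
  have hshare : ∀ s : IrrCharacter G, IsA u s → irrConj s = s → ∀ k ∈ K, (s : G → ℂ) k = 3 := by
    intro s hs hss
    by_contra hK'
    push Not at hK'
    obtain ⟨k₀, hk₀, hk₀'⟩ := hK'
    have hne : s ≠ r := fun h => hk₀' (by rw [h]; exact (hKmem k₀).1 hk₀)
    obtain ⟨τ, hτ, hτχ⟩ := exists_rep_deg s hs.1
    set L := MonoidHom.ker τ with hL
    have hk₀L : k₀ ∉ L := by
      rw [hL, MonoidHom.mem_ker, rep_eq_one_iff, hτχ, hs.apply_one]; exact hk₀'
    have hsup : K ⊔ L = ⊤ := by
      have hn : (Subgroup.map (QuotientGroup.mk' K) L).Normal :=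
        Subgroup.Normal.map inferInstance _ (QuotientGroup.mk'_surjective K)
      rcases hn.eq_bot_or_eq_top with h | h
      · exfalso
        rw [Subgroup.map_eq_bot_iff, QuotientGroup.ker_mk'] at h
        -- `L ≤ K`, so `K / L` is a normal subgroup of the simple quotient by `L`
        have HL := H.quotient_hyp L (by
          rw [hL, MonoidHom.mem_ker, rep_eq_one_iff, hτχ, hs.apply_one, hs.2]; norm_num)
        let σ' : Representation ℂ (G ⧸ L) (Fin 3 → ℂ) := QuotientGroup.lift L τ le_rfl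
        have hσ'i : σ'.IsIrreducible := irreducible_descends τ L le_rfl
        have hfaith' : ∀ x, σ' x = 1 → x = 1 := by
          intro x
          induction x using QuotientGroup.induction_on with
          | _ g => exact fun h => (QuotientGroup.eq_one_iff g).2 h
        have hreal' : ∀ x, (σ'.character x).im = 0 := by
          intro x
          induction x using QuotientGroup.induction_on with
          | _ g =>
            show (τ.character g).im = 0
            rw [hτχ]
            refine Complex.conj_eq_iff_im.1 ?_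
            rw [← irrConj_apply, hss]
        have h60' : Nat.card (G ⧸ L) = 60 := by
          rcases card_eq_sixty σ' HL.perfect hreal' hfaith' with h | h | h
          · exact absurd HL.perfect (not_perfect_small h (by norm_num))
          · exact absurd HL.perfect (not_perfect_small h (by norm_num))
          · exact h
        have h1 := L.card_mul_index
        have h2 := K.card_mul_index
        rw [Subgroup.index_eq_card, h60'] at h1
        rw [Subgroup.index_eq_card, h60] at h2
        have hLK : L = K := Subgroup.eq_of_le_of_card_ge h (by omega)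
        exact hk₀L (hLK ▸ hk₀)
      · have h' := congrArg (Subgroup.comap (QuotientGroup.mk' K)) h
        rwa [Subgroup.comap_map_eq, QuotientGroup.ker_mk', Subgroup.comap_top, sup_comm] at h'
    have hne' : r ≠ irrConj s := by rw [hss]; exact hne.symm
    obtain ⟨P, Q, hX, hPQ⟩ := H.options_mul hr hs hne'
    have hdeg : P ≠ Q := fun h => by rw [h] at hPQ; rcases hPQ with ⟨a, -, b, -⟩ | ⟨a, -, b, -⟩ <;> omega
    have h2 : classInner (fun g => (r : G → ℂ) g * (s : G → ℂ) g) (fun g => (r : G → ℂ) g * (s : G → ℂ) g) = 2 := by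
      rw [hX]
      simp only [classInner_add_left, classInner_add_right, classInner_irr, hdeg, hdeg.symm, if_true,
        if_false]
      norm_num
    obtain ⟨r', hr'⟩ := exists_irr_quotient K r (fun x hx => by rw [(hKmem x).1 hx, hr.apply_one])
    obtain ⟨s', hs'⟩ := exists_irr_quotient L s (fun x hx => by
      rw [hL, MonoidHom.mem_ker, rep_eq_one_iff, hτχ] at hx; exact hx)
    let f : G →* (G ⧸ K) × (G ⧸ L) := (QuotientGroup.mk' K).prod (QuotientGroup.mk' L)
    have hf : Function.Surjective f := by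
      rintro ⟨x, y⟩
      obtain ⟨g₁, rfl⟩ := QuotientGroup.mk'_surjective K x
      obtain ⟨g₂, rfl⟩ := QuotientGroup.mk'_surjective L y
      obtain ⟨k, hk, l, hl, hkl⟩ := Subgroup.mem_sup_of_normal_left.1
        (show g₁⁻¹ * g₂ ∈ K ⊔ L by rw [hsup]; exact Subgroup.mem_top _)
      refine ⟨g₁ * k, Prod.ext ?_ ?_⟩
      · show ((g₁ * k : G) : G ⧸ K) = (g₁ : G ⧸ K)
        rw [QuotientGroup.eq]
        simpa [mul_assoc] using inv_mem hk
      · show ((g₁ * k : G) : G ⧸ L) = (g₂ : G ⧸ L)
        rw [QuotientGroup.eq, show (g₁ * k)⁻¹ * g₂ = k⁻¹ * (g₁⁻¹ * g₂) by group, ← hkl,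
          inv_mul_cancel_left]
        exact hl
    have hfun : (fun g => (r : G → ℂ) g * (s : G → ℂ) g) =
        fun g => (fun p : (G ⧸ K) × (G ⧸ L) => (r' : G ⧸ K → ℂ) p.1 * (s' : G ⧸ L → ℂ) p.2) (f g) := by
      funext g
      show _ = (r' : G ⧸ K → ℂ) (g : G ⧸ K) * (s' : G ⧸ L → ℂ) (g : G ⧸ L)
      rw [hr', hs']
    have : Fintype (G ⧸ K) := Fintype.ofFinite _
    have : Fintype (G ⧸ L) := Fintype.ofFinite _
    rw [hfun, classInner_comp_of_surjective f hf
      (fun p => (r' : G ⧸ K → ℂ) p.1 * (s' : G ⧸ L → ℂ) p.2) (fun p => (r' : G ⧸ K → ℂ) p.1 * (s' : G ⧸ L → ℂ) p.2)] at h2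
    have hr1 := classInner_irr_self r'
    have hs1 := classInner_irr_self s'
    simp only [classInner, Nat.card_prod, Fintype.sum_prod_type, Nat.cast_mul, mul_inv, map_mul] at h2 hr1 hs1
    rw [Finset.sum_congr rfl fun x _ => Finset.sum_congr rfl fun y _ =>
      mul_mul_mul_comm _ _ _ _, ← Finset.sum_mul_sum, mul_mul_mul_comm, hr1, hs1] at h2
    norm_num at h2
  -- every member of the support is trivial on `K`
  have hsuppQ := HQ.sum_supp
  set inK := (supp u).filter fun χ : IrrCharacter G => ∀ k ∈ K, (χ : G → ℂ) k = (χ : G → ℂ) 1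
  set outK := (supp u).filter fun χ : IrrCharacter G => ¬ ∀ k ∈ K, (χ : G → ℂ) k = (χ : G → ℂ) 1
  have hval : ∀ (ψ : IrrCharacter (G ⧸ K)) (g : G),
      (inflate K ψ : G → ℂ) g = (ψ : G ⧸ K → ℂ) (g : G ⧸ K) := fun _ _ => rfl
  have himage : (supp (u : G ⧸ K)).image (inflate K) = inK := by
    ext χ
    constructor
    · intro h
      obtain ⟨ψ, hψ, rfl⟩ := Finset.mem_image.1 h
      rw [mem_supp] at hψ
      refine Finset.mem_filter.2 ⟨mem_supp.2 ⟨fun h => hψ.1 (funext fun x => ?_), hψ.2⟩, fun k hk => ?_⟩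
      · obtain ⟨g, rfl⟩ := QuotientGroup.mk'_surjective K x
        exact congrFun h g
      · rw [hval, hval, (QuotientGroup.eq_one_iff k).2 hk, QuotientGroup.mk_one]
    · intro h
      obtain ⟨hχ, hk⟩ := Finset.mem_filter.1 h
      obtain ⟨ψ, hψ⟩ := exists_irr_quotient K χ hk
      rw [mem_supp] at hχ
      refine Finset.mem_image.2 ⟨ψ, mem_supp.2 ⟨fun h => hχ.1 (funext fun g => ?_), ?_⟩,
        Subtype.ext (funext fun g => hψ g)⟩
      · rw [← hψ g, h]
      · rw [hψ]; exact hχ.2
  have hin : ∑ χ ∈ inK, wt χ = -1 := by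
    rw [← himage, Finset.sum_image ((inflate_injective K).injOn), ← hsuppQ]
    refine Finset.sum_congr rfl fun ψ _ => ?_
    have hd : deg (inflate K ψ) = deg ψ := eq_deg_of_apply_one (by
      rw [hval, QuotientGroup.mk_one, apply_one_eq])
    simp only [wt, hd]
  have hout : ∑ χ ∈ outK, wt χ = 0 := by
    have h := Finset.sum_filter_add_sum_filter_not (supp u)
      (fun χ : IrrCharacter G => ∀ k ∈ K, (χ : G → ℂ) k = (χ : G → ℂ) 1) wt
    rw [H.sum_supp, hin] at h
    linarith
  have hempty : outK = ∅ := by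
    refine (H.weight_nonneg outK (Finset.filter_subset _ _) ?_ ?_).2 hout
    · intro χ hχ hA hreal'
      exact (Finset.mem_filter.1 hχ).2 fun k hk => by rw [hshare χ hA hreal' k hk, hA.apply_one]
    · intro χ hχ hA P h6 hPu hP
      refine Finset.mem_filter.2 ⟨mem_supp.2 ⟨H.ne_one_of_deg (by omega), by rw [hPu]; norm_num⟩,
        fun hPK => (Finset.mem_filter.1 hχ).2 fun k hk => ?_⟩
      have h1 : (P : G → ℂ) k = 6 := by rw [hPK k hk, apply_one_eq, h6]; norm_num
      rw [hP k] at h1
      rw [hA.apply_one]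
      set z := (χ : G → ℂ) k with hz
      have hn1 : ‖z‖ ≤ (deg χ : ℝ) := norm_irr_le χ k
      have hn2 : ‖(χ : G → ℂ) (k * k)‖ ≤ (deg χ : ℝ) := norm_irr_le χ (k * k)
      rw [hA.1] at hn1 hn2
      rw [H.IsA_sq_formula hA.1 k, ← hz] at hn2
      have hre := congrArg Complex.re h1
      have him := congrArg Complex.im h1
      simp only [Complex.sub_re, Complex.mul_re, Complex.conj_re, Complex.re_ofNat] at hre
      simp only [Complex.sub_im, Complex.mul_im, Complex.conj_im, Complex.im_ofNat] at him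
      have hy : z.im = 0 := by
        have h' : z.im * (2 * z.re + 1) = 0 := by linear_combination him
        rcases mul_eq_zero.1 h' with h | h
        · exact h
        · exfalso; nlinarith [sq_nonneg z.im]
      have hx : (z.re - 3) * (z.re + 2) = 0 := by rw [hy] at hre; linear_combination hre
      rcases mul_eq_zero.1 hx with h | h
      · exact Complex.ext (by rw [Complex.re_ofNat]; linarith) (by rw [Complex.im_ofNat]; exact hy)
      · exfalso
        have hz2 : z = ((-2 : ℝ) : ℂ) := Complex.ext (by rw [Complex.ofReal_re]; linarith)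
          (by rw [Complex.ofReal_im]; exact hy)
        rw [hz2, Complex.conj_ofReal] at hn2
        norm_num at hn2
  refine ⟨K, inferInstance, huK, hu2, ⟨e⟩, ?_⟩
  -- column orthogonality
  have hcQ : Nat.card (Subgroup.centralizer ({(u : G ⧸ K)} : Set (G ⧸ K))) = 4 := by
    have hx : e (u : G ⧸ K) * e (u : G ⧸ K) = 1 := by
      rw [← map_mul, ← QuotientGroup.mk_mul, (QuotientGroup.eq_one_iff _).2 hu2, map_one]
    have hx1 : e (u : G ⧸ K) ≠ 1 := fun h => HQ.ne_one (e.injective (h.trans (map_one e).symm))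
    rw [← alt_involution_centralizer _ hx hx1]
    rw [← Fintype.card_subtype, ← Nat.card_eq_fintype_card]
    refine Nat.card_congr (Equiv.subtypeEquiv e.toEquiv fun y => ?_)
    rw [Subgroup.mem_centralizer_singleton_iff]
    show _ ↔ e y * e (u : G ⧸ K) = e (u : G ⧸ K) * e y
    rw [← map_mul, ← map_mul, e.injective.eq_iff]
  have hsum : ∀ (J : Type u) [Group J] [Finite J] (v : J),
      (Nat.card (Subgroup.centralizer ({v} : Set J)) : ℂ) =
        1 + ∑ χ ∈ supp v, (χ : J → ℂ) v * conj ((χ : J → ℂ) v) := by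
    intro J _ _ v
    cases nonempty_fintype J
    rw [← column_orthogonality_of_isConj (IsConj.refl v),
      ← Finset.add_sum_erase _ _ (Finset.mem_univ (trivialIrr J))]
    simp only [trivialIrr_apply, map_one, one_mul]
    congr 1
    symm
    refine Finset.sum_subset (fun χ hχ => Finset.mem_erase.2 ⟨fun e => (mem_supp.1 hχ).1 (by rw [e]; rfl),
      Finset.mem_univ χ⟩) fun χ hχ hn => ?_
    have h0 : (χ : J → ℂ) v = 0 := by
      by_contra h0
      exact hn (mem_supp.2 ⟨fun e => Finset.ne_of_mem_erase hχ (Subtype.ext e), h0⟩)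
    rw [h0, zero_mul]
  have hall : supp u = inK := by
    refine (Finset.Subset.antisymm (Finset.filter_subset _ _) fun χ hχ => Finset.mem_filter.2 ⟨hχ, ?_⟩).symm
    by_contra hn
    exact absurd (hempty ▸ Finset.mem_filter.2 ⟨hχ, hn⟩ : χ ∈ (∅ : Finset _)) (Finset.notMem_empty χ)
  have hC := hsum G u
  rw [hall, ← himage, Finset.sum_image ((inflate_injective K).injOn)] at hC
  simp only [hval] at hC
  rw [← hsum (G ⧸ K) (u : G ⧸ K), hcQ] at hC
  exact_mod_cast hC

end Hyp

end Cfsg.Agent.Lib.DiffFour
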