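import Cfsg.Agent.Lib.DiffFour.Basic

/-!
# Non-real characters of degree three and their symmetric squares
-/

set_option autoImplicit false
set_option linter.unusedSectionVars false

namespace Cfsg.Agent.Lib.DiffFour

open scoped ComplexConjugate
open Cfsg
open Cfsg.Agent.Lib.Chars

universe u

variable {G : Type u} [Group G] [Finite G]

theorem irrConj_irrConj (χ : IrrCharacter G) : irrConj (irrConj χ) = χ :=
  Subtype.ext (funext fun g => by simp [irrConj_apply])

theorem deg_irrConj (χ : IrrCharacter G) : deg (irrConj χ) = deg χ :=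
  eq_deg_of_apply_one (by rw [irrConj_apply, apply_one_eq]; simp)

theorem eq_conj_comm {χ ψ : IrrCharacter G} : irrConj χ = ψ ↔ irrConj ψ = χ :=
  ⟨fun h => h ▸ irrConj_irrConj χ, fun h => h ▸ irrConj_irrConj ψ⟩

/-- Three non-real irreducible characters cannot have a real sum. -/
theorem no_real_sum [Fintype G] {N₁ N₂ N₃ : IrrCharacter G} (h1 : irrConj N₁ ≠ N₁)
    (h2 : irrConj N₂ ≠ N₂) (h3 : irrConj N₃ ≠ N₃)
    (h : (N₁ : G → ℂ) + (N₂ : G → ℂ) + (N₃ : G → ℂ) =
      (irrConj N₁ : G → ℂ) + (irrConj N₂ : G → ℂ) + (irrConj N₃ : G → ℂ)) : False := by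
  classical
  have key : ∀ Y : IrrCharacter G,
      (if N₁ = Y then 1 else 0 : ℕ) + (if N₂ = Y then 1 else 0) + (if N₃ = Y then 1 else 0) =
      (if irrConj N₁ = Y then 1 else 0) + (if irrConj N₂ = Y then 1 else 0) +
        (if irrConj N₃ = Y then 1 else 0) := by
    intro Y
    have hY := congrArg (fun f : G → ℂ => classInner f (Y : G → ℂ)) h
    simp only [classInner_add_left, classInner_irr] at hY
    exact_mod_cast hY
  have e1 := key N₁
  have e2 := key N₂
  have e3 := key N₃
  have s21 : (N₂ = N₁) = (N₁ = N₂) := propext eq_comm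
  have s31 : (N₃ = N₁) = (N₁ = N₃) := propext eq_comm
  have s32 : (N₃ = N₂) = (N₂ = N₃) := propext eq_comm
  have c21 : (irrConj N₂ = N₁) = (irrConj N₁ = N₂) := propext eq_conj_comm
  have c31 : (irrConj N₃ = N₁) = (irrConj N₁ = N₃) := propext eq_conj_comm
  have c32 : (irrConj N₃ = N₂) = (irrConj N₂ = N₃) := propext eq_conj_comm
  simp only [s21, s31, s32, c21, c31, c32, h1, h2, h3, if_true, if_false] at e1 e2 e3
  split_ifs at e1 e2 e3 <;> omega

namespace Hyp

variable {u : G} (H : Hyp u)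

include H

/-- The symmetric square of a non-real character in `IsA`. -/
theorem exists_sq {χ : IrrCharacter G} (hA : IsA u χ) (hr : irrConj χ ≠ χ) :
    ∃ P : IrrCharacter G, deg P = 6 ∧ (P : G → ℂ) u = 2 ∧
      ∀ g, (P : G → ℂ) g = (χ : G → ℂ) g * (χ : G → ℂ) g - conj ((χ : G → ℂ) g) := by
  classical
  cases nonempty_fintype G
  set S : G → ℂ := fun g => (χ : G → ℂ) g * (χ : G → ℂ) g - conj ((χ : G → ℂ) g) with hSdef
  have hS : IsCharacter G S := by
    have h : IsCharacter G (fun g => ((χ : G → ℂ) g * (χ : G → ℂ) g + 1 * (χ : G → ℂ) (g * g)) / 2) :=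
      CharsElem.isCharacter_square (irr_isCharacter χ) 1 (one_mul 1)
    convert h using 1
    funext g
    rw [H.IsA_sq_formula hA.1, hSdef]
    ring
  obtain ⟨P, Q, hX, hPQ⟩ := H.options_mul hA hA hr.symm
  obtain ⟨k, hk⟩ := isCharacter_classInner_nat hS (irr_isCharacter (irrConj χ))
  have hsum : (P : G → ℂ) + (Q : G → ℂ) = S + (irrConj χ : G → ℂ) := by
    rw [← hX]; funext g
    simp only [hSdef, Pi.add_apply, irrConj_apply]
    ring
  have h := congrArg (fun f : G → ℂ => classInner f (irrConj χ : G → ℂ)) hsum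
  simp only [classInner_add_left, hk, classInner_irr] at h
  have h3 := hA.conj.1
  rcases hPQ with ⟨hP, hPu, hQ⟩ | ⟨hP, hPu, hQ, -⟩
  · have hPne : P ≠ irrConj χ := fun e => by rw [e] at hP; omega
    have hQeq : Q = irrConj χ := by
      by_contra hQne
      simp only [hPne, hQne, if_false, if_true, add_zero] at h
      have h' : k + 1 = 0 := by exact_mod_cast h.symm
      omega
    refine ⟨P, hP, hPu, fun g => ?_⟩
    have hg := congrFun hsum g
    simp only [Pi.add_apply, hQeq, hSdef] at hg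
    linear_combination hg
  · have hPne : P ≠ irrConj χ := fun e => by rw [e] at hP; omega
    have hQne : Q ≠ irrConj χ := fun e => by rw [e] at hQ; omega
    simp only [hPne, hQne, if_false, if_true, add_zero] at h
    have h' : k + 1 = 0 := by exact_mod_cast h.symm
    omega

/-- Two characters with the same symmetric square: their mixed product has exactly one real
constituent. -/
theorem mixed_product [Fintype G] {a b P : IrrCharacter G} (ha : IsA u a) (hb : IsA u b)
    (hab : a ≠ b) (hP : deg P = 6)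
    (hPa : ∀ g, (P : G → ℂ) g = (a : G → ℂ) g * (a : G → ℂ) g - conj ((a : G → ℂ) g))
    (hPb : ∀ g, (P : G → ℂ) g = (b : G → ℂ) g * (b : G → ℂ) g - conj ((b : G → ℂ) g)) :
    ∃ R N : IrrCharacter G, irrConj R = R ∧ irrConj N ≠ N ∧
      ∀ g, conj ((a : G → ℂ) g) * (b : G → ℂ) g = (R : G → ℂ) g + (N : G → ℂ) g := by
  classical
  obtain ⟨R, Q, hX, hRQ⟩ := H.options_mul ha.conj hb fun h => hab (irrConj.injective h)
  have hX' : ∀ g, conj ((a : G → ℂ) g) * (b : G → ℂ) g = (R : G → ℂ) g + (Q : G → ℂ) g :=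
    fun g => congrFun hX g
  have hdeg : deg R ≠ deg Q := by
    rcases hRQ with ⟨h1, -, h2, -⟩ | ⟨h1, -, h2, -⟩ <;> omega
  have hleft : classInner ((R : G → ℂ) + (Q : G → ℂ)) ((irrConj R : G → ℂ) + (irrConj Q : G → ℂ)) = 1 := by
    have e1 : classInner ((R : G → ℂ) + (Q : G → ℂ)) ((irrConj R : G → ℂ) + (irrConj Q : G → ℂ)) =
        classInner ((P : G → ℂ) + (irrConj b : G → ℂ)) ((P : G → ℂ) + (irrConj a : G → ℂ)) := by
      simp only [classInner, Pi.add_apply, irrConj_apply]
      congr 1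
      refine Finset.sum_congr rfl fun g _ => ?_
      have h1 := hX' g
      have h2 : (P : G → ℂ) g + conj ((b : G → ℂ) g) = (b : G → ℂ) g * (b : G → ℂ) g := by
        rw [hPb g]; ring
      have h3 : (P : G → ℂ) g + conj ((a : G → ℂ) g) = (a : G → ℂ) g * (a : G → ℂ) g := by
        rw [hPa g]; ring
      rw [h2, h3, ← map_add conj ((R : G → ℂ) g), ← h1, Complex.conj_conj, map_mul]
      ring
    rw [e1]
    simp only [classInner_add_left, classInner_add_right, classInner_irr]
    have n1 : P ≠ irrConj a := fun e => by rw [e, deg_irrConj, ha.1] at hP; omega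
    have n2 : irrConj b ≠ P := fun e => by rw [← e, deg_irrConj, hb.1] at hP; omega
    have n3 : irrConj b ≠ irrConj a := fun e => hab (irrConj.injective e).symm
    simp [n1, n2, n3]
  have c1 : R ≠ irrConj Q := fun e => hdeg (by rw [e, deg_irrConj])
  have c2 : Q ≠ irrConj R := fun e => hdeg (by rw [e, deg_irrConj])
  simp only [classInner_add_left, classInner_add_right, classInner_irr, c1, c2, if_false, add_zero,
    zero_add] at hleft
  by_cases h1 : R = irrConj R
  · refine ⟨R, Q, h1.symm, fun h2 => ?_, hX'⟩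
    simp only [eq_true h1, eq_true h2.symm, if_true] at hleft
    norm_num at hleft
  · have h2 : Q = irrConj Q := by
      by_contra h2
      simp [h1, h2] at hleft
    exact ⟨Q, R, h2.symm, fun h => h1 h.symm, fun g => by rw [hX', add_comm]⟩

/-- At most two non-real characters share a symmetric square. -/
theorem no_triple {a b c P : IrrCharacter G} (ha : IsA u a) (hb : IsA u b) (hc : IsA u c)
    (hab : a ≠ b) (hbc : b ≠ c) (hca : c ≠ a) (hP : deg P = 6)
    (hPa : ∀ g, (P : G → ℂ) g = (a : G → ℂ) g * (a : G → ℂ) g - conj ((a : G → ℂ) g))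
    (hPb : ∀ g, (P : G → ℂ) g = (b : G → ℂ) g * (b : G → ℂ) g - conj ((b : G → ℂ) g))
    (hPc : ∀ g, (P : G → ℂ) g = (c : G → ℂ) g * (c : G → ℂ) g - conj ((c : G → ℂ) g)) : False := by
  cases nonempty_fintype G
  have hv : ∀ {χ : IrrCharacter G}, IsA u χ →
      (∀ g, (P : G → ℂ) g = (χ : G → ℂ) g * (χ : G → ℂ) g - conj ((χ : G → ℂ) g)) →
      ∀ g, (P : G → ℂ) (g * g) =
        (P : G → ℂ) g * (P : G → ℂ) g - 2 * ((P : G → ℂ) g * conj ((χ : G → ℂ) g) - (χ : G → ℂ) g) := by
    intro χ hχ hPχ g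
    rw [hPχ (g * g), H.IsA_sq_formula hχ.1, hPχ g, map_sub, map_mul, map_mul, map_ofNat,
      Complex.conj_conj]
    ring
  have hprod : ∀ g, ((a : G → ℂ) g - (b : G → ℂ) g) * ((b : G → ℂ) g - (c : G → ℂ) g) *
      ((c : G → ℂ) g - (a : G → ℂ) g) = 0 := by
    intro g
    by_contra hne
    simp only [mul_eq_zero, not_or, sub_eq_zero] at hne
    obtain ⟨⟨n1, n2⟩, n3⟩ := hne
    have va := hv ha hPa g
    have vb := hv hb hPb g
    have vc := hv hc hPc g
    set w := (P : G → ℂ) g with hw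
    set x := (a : G → ℂ) g
    set y := (b : G → ℂ) g
    set z := (c : G → ℂ) g
    have hwa : w = x * x - conj x := hPa g
    have hwb : w = y * y - conj y := hPb g
    have hwc : w = z * z - conj z := hPc g
    have e1 : (x - y) * (1 - w * (x + y)) = 0 := by
      linear_combination (1 / 2 : ℂ) * (vb - va) + w * (hwa - hwb)
    have e2 : (z - x) * (1 - w * (z + x)) = 0 := by
      linear_combination (1 / 2 : ℂ) * (va - vc) + w * (hwc - hwa)
    have f1 := (mul_eq_zero.1 e1).resolve_left (sub_ne_zero.2 n1)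
    have f2 := (mul_eq_zero.1 e2).resolve_left (sub_ne_zero.2 n3)
    have e3 : w * (y - z) = 0 := by linear_combination f2 - f1
    rcases mul_eq_zero.1 e3 with h | h
    · rw [h] at f1; simp at f1
    · exact n2 (sub_eq_zero.1 h)
  obtain ⟨R₁, N₁, r1, n1, x1⟩ := H.mixed_product ha hb hab hP hPa hPb
  obtain ⟨R₂, N₂, r2, n2, x2⟩ := H.mixed_product hb hc hbc hP hPb hPc
  obtain ⟨R₃, N₃, r3, n3, x3⟩ := H.mixed_product hc ha hca hP hPc hPa
  refine no_real_sum n1 n2 n3 (funext fun g => ?_)
  have q1 : conj ((R₁ : G → ℂ) g) = (R₁ : G → ℂ) g := by rw [← irrConj_apply, r1]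
  have q2 : conj ((R₂ : G → ℂ) g) = (R₂ : G → ℂ) g := by rw [← irrConj_apply, r2]
  have q3 : conj ((R₃ : G → ℂ) g) = (R₃ : G → ℂ) g := by rw [← irrConj_apply, r3]
  have e1 := congrArg conj (x1 g)
  have e2 := congrArg conj (x2 g)
  have e3 := congrArg conj (x3 g)
  rw [map_mul, map_add, Complex.conj_conj, q1] at e1
  rw [map_mul, map_add, Complex.conj_conj, q2] at e2
  rw [map_mul, map_add, Complex.conj_conj, q3] at e3
  have key : conj ((a : G → ℂ) g) * (b : G → ℂ) g + conj ((b : G → ℂ) g) * (c : G → ℂ) g +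
      conj ((c : G → ℂ) g) * (a : G → ℂ) g =
      (a : G → ℂ) g * conj ((b : G → ℂ) g) + (b : G → ℂ) g * conj ((c : G → ℂ) g) +
        (c : G → ℂ) g * conj ((a : G → ℂ) g) := by
    linear_combination -(hprod g) + ((b : G → ℂ) g - (c : G → ℂ) g) * (hPa g) +
      ((c : G → ℂ) g - (a : G → ℂ) g) * (hPb g) + ((a : G → ℂ) g - (b : G → ℂ) g) * (hPc g)
  simp only [Pi.add_apply, irrConj_apply]
  linear_combination key - x1 g - x2 g - x3 g + e1 + e2 + e3

end Hyp

end Cfsg.Agent.Lib.DiffFour
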