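import Cfsg.Agent.Lib.Chars.PrimitiveTwo

/-!
# The class equation of a group with a conjugation invariant partition

If the nonidentity elements are partitioned by non-normal subgroups of index at most two
in their normalisers, the group has order 12, 24 or 60.
-/

set_option autoImplicit false

namespace Cfsg.Agent.Lib.DiffFour

open Cfsg.Agent.Lib.Chars (partTerm parts_eq)

theorem card_of_partition {G : Type*} [Group G] [Finite G] (F : G → Subgroup G)
    (hne : ∃ g : G, g ≠ 1)
    (hself : ∀ g, g ∈ F g)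
    (heq : ∀ g x : G, g ≠ 1 → x ∈ F g → x ≠ 1 → F x = F g)
    (hconj : ∀ y g : G, (F g).map (MulAut.conj y).toMonoidHom = F (y * g * y⁻¹))
    (htwo : ∀ g y y' : G, g ≠ 1 → F (y * g * y⁻¹) = F g → F (y' * g * y'⁻¹) = F g →
      y ∉ F g → y' ∉ F g → y⁻¹ * y' ∈ F g)
    (hnn : ∀ g : G, g ≠ 1 → ¬ (F g).Normal) :
    Nat.card G = 12 ∨ Nat.card G = 24 ∨ Nat.card G = 60 := by
  classical
  cases nonempty_fintype G
  let T := {A : Subgroup G // ∃ g, g ≠ 1 ∧ A = F g}
  have : Fintype T := Fintype.ofFinite _
  let act : MulAction G T :=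
    { smul := fun y A => ⟨A.1.map (MulAut.conj y).toMonoidHom, by
        obtain ⟨g, hg, hA⟩ := A.2
        exact ⟨y * g * y⁻¹, by simpa using hg, by rw [hA, hconj]⟩⟩
      one_smul := fun A => Subtype.ext (by
        show A.1.map (MulAut.conj (1 : G)).toMonoidHom = A.1
        ext x; simp)
      mul_smul := fun y y' A => Subtype.ext (by
        show A.1.map (MulAut.conj (y * y')).toMonoidHom
          = (A.1.map (MulAut.conj y').toMonoidHom).map (MulAut.conj y).toMonoidHom
        rw [Subgroup.map_map]; congr 1; ext x; simp [mul_assoc]) }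
  have hsmul : ∀ (y : G) (A : T), (y • A : T).1 = A.1.map (MulAut.conj y).toMonoidHom :=
    fun _ _ => rfl
  let a : T → ℕ := fun A => Nat.card A.1
  have hsplit : ∀ A : Subgroup G, Nat.card A = 1 + Nat.card {x : G // x ∈ A ∧ x ≠ 1} := by
    intro A
    rw [← Nat.card_unique (α := Unit), ← Nat.card_sum]
    exact Nat.card_congr
      { toFun := fun x => if h : (x : G) = 1 then Sum.inl () else Sum.inr ⟨x, x.2, h⟩
        invFun := Sum.elim (fun _ => 1) (fun x => ⟨x, x.2.1⟩)
        left_inv := fun x => by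
          by_cases h : (x : G) = 1
          · simp [Subtype.ext_iff, h]
          · simp [h]
        right_inv := fun s => by
          rcases s with z | x
          · simp
          · simp [x.2.2] }
  have hpart : Nat.card {x : G // x ∈ (⊤ : Subgroup G) ∧ x ≠ 1}
      = ∑ A : T, Nat.card {x : G // x ∈ A.1 ∧ x ≠ 1} := by
    rw [← Nat.card_sigma]
    refine Nat.card_congr
      { toFun := fun x => ⟨⟨F x.1, x.1, x.2.2, rfl⟩, x.1, hself _, x.2.2⟩
        invFun := fun s => ⟨s.2.1, trivial, s.2.2.2⟩
        left_inv := fun x => rfl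
        right_inv := ?_ }
    rintro ⟨⟨A, g, hg, rfl⟩, x, hx, hxZ⟩
    exact Sigma.subtype_ext (Subtype.ext (heq g x hg hx hxZ)) rfl
  set n := Nat.card G with hn
  have hn2 : 2 ≤ n := by
    obtain ⟨g, hg⟩ := hne
    have : Nontrivial G := ⟨⟨g, 1, hg⟩⟩
    exact Finite.one_lt_card
  have hcount : (n : ℚ) - 1 = ∑ A : T, ((a A : ℚ) - 1) := by
    have h1 : ∀ A : T, (Nat.card {x : G // x ∈ A.1 ∧ x ≠ 1} : ℚ) = ((a A : ℚ) - 1) := fun A => by
      have h := hsplit A.1
      have h' : (a A : ℚ) = 1 + (Nat.card {x : G // x ∈ A.1 ∧ x ≠ 1} : ℚ) := by exact_mod_cast h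
      linear_combination -h'
    have h2 := hsplit ⊤
    rw [Subgroup.card_top, hpart] at h2
    have h2' : (n : ℚ) = 1 + ∑ A : T, (Nat.card {x : G // x ∈ A.1 ∧ x ≠ 1} : ℚ) := by
      exact_mod_cast h2
    rw [Finset.sum_congr rfl fun A _ => h1 A] at h2'
    linear_combination h2'
  let Ω := MulAction.orbitRel.Quotient G T
  have : Fintype Ω := Fintype.ofFinite _
  have hstab : ∀ (A : T) (g : G), g ≠ 1 → A.1 = F g → ∀ y : G,
      y ∈ MulAction.stabilizer G A ↔ F (y * g * y⁻¹) = F g := by
    intro A g hg hA y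
    rw [MulAction.mem_stabilizer_iff, Subtype.ext_iff, hsmul, hA, hconj]
  have hle : ∀ A : T, A.1 ≤ MulAction.stabilizer G A := by
    intro A y hy
    obtain ⟨g, hg, hA⟩ := A.2
    rw [hstab A g hg hA]
    rw [hA] at hy
    exact heq g _ hg (mul_mem (mul_mem hy (hself g)) (inv_mem hy)) (by simpa using hg)
  let e : T → ℕ := fun A => A.1.relIndex (MulAction.stabilizer G A)
  have he : ∀ A : T, (e A = 1 ∨ e A = 2) ∧ e A * a A < n ∧ 2 ≤ a A ∧
      Nat.card (MulAction.orbit G A) * (e A * a A) = n := by
    intro A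
    obtain ⟨g, hg, hA⟩ := A.2
    set S := MulAction.stabilizer G A with hS
    have hpos : e A ≠ 0 := Subgroup.index_ne_zero_of_finite
    have hle2 : e A ≤ 2 := by
      show Nat.card (S ⧸ A.1.subgroupOf S) ≤ 2
      rw [show (2 : ℕ) = Nat.card Bool by simp]
      refine Nat.card_le_card_of_injective (fun q : S ⧸ A.1.subgroupOf S =>
        Quotient.liftOn' q (fun y => decide ((y : G) ∈ A.1)) ?_) ?_
      · intro y y' hyy
        rw [QuotientGroup.leftRel_apply, Subgroup.mem_subgroupOf] at hyy
        simp only [decide_eq_decide]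
        exact ⟨fun h => by simpa using mul_mem h hyy,
          fun h => by simpa using mul_mem h (inv_mem hyy)⟩
      · intro q q' hqq
        induction q using QuotientGroup.induction_on with
        | _ y => ?_
        induction q' using QuotientGroup.induction_on with
        | _ y' => ?_
        have h1 : decide ((y : G) ∈ A.1) = decide ((y' : G) ∈ A.1) := hqq
        rw [decide_eq_decide] at h1
        rw [QuotientGroup.eq, Subgroup.mem_subgroupOf, Subgroup.coe_mul, Subgroup.coe_inv]
        by_cases hy : (y : G) ∈ A.1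
        · exact mul_mem (inv_mem hy) (h1.1 hy)
        · rw [hA] at hy ⊢
          exact htwo g y y' hg ((hstab A g hg hA _).1 y.2) ((hstab A g hg hA _).1 y'.2) hy
            fun h => hy (hA ▸ h1.2 (hA ▸ h))
    have hcardS : Nat.card S = e A * a A := by
      have := (A.1.subgroupOf S).card_mul_index
      rw [Nat.card_congr (Subgroup.subgroupOfEquivOfLe (hle A)).toEquiv] at this
      rw [← this, mul_comm]
      rfl
    have horb : Nat.card (MulAction.orbit G A) * (e A * a A) = n := by
      have h1 : Nat.card (MulAction.orbit G A) = S.index := by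
        rw [Nat.card_coe_set_eq]; exact (MulAction.index_stabilizer G A).symm
      rw [h1, ← hcardS, mul_comm]
      exact S.card_mul_index
    refine ⟨by omega, ?_, ?_, horb⟩
    · refine lt_of_le_of_ne (Nat.le_of_dvd (by omega) ⟨_, (mul_comm _ _).trans horb |>.symm⟩)
        fun heqn => hnn g hg ?_
      have hS' : Nat.card S = n := hcardS.trans heqn
      refine ⟨fun x hx y => ?_⟩
      have hy : y ∈ S := by rw [Subgroup.eq_top_of_card_eq S hS']; exact Subgroup.mem_top y
      rw [← (hstab A g hg hA y).1 hy, ← hconj]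
      exact ⟨x, hx, by simp⟩
    · show 2 ≤ Nat.card A.1
      have hm : g ∈ A.1 := hA ▸ hself g
      exact Subgroup.one_lt_card_iff_ne_bot _ |>.2 fun hb => hg (by rwa [hb, Subgroup.mem_bot] at hm)
  have hconst : ∀ (y : G) (A : T), a (y • A) = a A := by
    intro y A
    show Nat.card (y • A : T).1 = Nat.card A.1
    rw [hsmul]
    exact (Nat.card_congr (Subgroup.equivMapOfInjective _ _
      (MulAut.conj y).injective).toEquiv).symm
  have hsum : ∑ A : T, ((a A : ℚ) - 1)
      = (n : ℚ) * ∑ ω : Ω, partTerm (a ω.out, e ω.out) := by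
    have : ∀ ω : Ω, Fintype (MulAction.orbit G ω.out) := fun ω => Fintype.ofFinite _
    rw [Fintype.sum_equiv (MulAction.selfEquivSigmaOrbits G T) (fun A : T => ((a A : ℚ) - 1))
      (fun s => ((a s.1.out : ℚ) - 1)) (fun A => ?_), Fintype.sum_sigma, Finset.mul_sum]
    · refine Finset.sum_congr rfl fun ω _ => ?_
      show ∑ _y : MulAction.orbit G ω.out, ((a ω.out : ℚ) - 1) = _
      rw [Finset.sum_const, Finset.card_univ, nsmul_eq_mul, Fintype.card_eq_nat_card]
      obtain ⟨h1, -, h3, h4⟩ := he ω.out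
      have h4' : (Nat.card (MulAction.orbit G ω.out) : ℚ) * ((e ω.out : ℚ) * (a ω.out : ℚ)) = n := by
        exact_mod_cast h4
      have ha0 : (a ω.out : ℚ) ≠ 0 := by exact_mod_cast (by omega : a ω.out ≠ 0)
      have he0 : (e ω.out : ℚ) ≠ 0 := by exact_mod_cast (by omega : e ω.out ≠ 0)
      rw [← h4', partTerm]
      field_simp
    · have hmem : A ∈ MulAction.orbit G (Quotient.mk (MulAction.orbitRel G T) A).out := by
        rw [MulAction.mem_orbit_symm, ← MulAction.orbitRel_apply]
        exact Quotient.mk_out A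
      obtain ⟨y, hy⟩ := hmem
      have hy' : y • (Quotient.mk (MulAction.orbitRel G T) A).out = A := hy
      show ((a A : ℚ) - 1) = (a (Quotient.mk (MulAction.orbitRel G T) A).out : ℚ) - 1
      conv_lhs => rw [← hy', hconst]
  refine parts_eq hn2 (fun ω : Ω => (a ω.out, e ω.out))
    (fun ω => ⟨(he _).2.2.1, (he _).1, (he _).2.1⟩) ?_
  have hnq : (n : ℚ) ≠ 0 := by exact_mod_cast (by omega : n ≠ 0)
  rw [hsum] at hcount
  field_simp
  linarith

end Cfsg.Agent.Lib.DiffFour
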