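import Cfsg.Agent.Lib.DiffFour.Count
import Cfsg.Agent.Lib.PSolvable.Core
import Cfsg.Agent.Lib.TwoRankInter.Main
import Cfsg.Agent.Lib.Involution.ThompsonTransfer
import Cfsg.Agent.Lib.DiffFour.Alt
import Cfsg.Agent.S0253

/-!
# The structure of a group with an icosahedral quotient and a small centraliser
-/

set_option autoImplicit false
set_option linter.unusedSectionVars false

namespace Cfsg.Agent.Lib.DiffFour

open Cfsg

universe u

section

variable {G : Type u} [Group G] [Finite G] (K : Subgroup G) [K.Normal] {u : G}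
  (hu : u ∉ K) (hu2 : u * u ∈ K) (e : G ⧸ K ≃* alternatingGroup (Fin 5))
  (hC : Nat.card (Subgroup.centralizer ({u} : Set G)) = 4)

theorem card_quot (e : G ⧸ K ≃* alternatingGroup (Fin 5)) : Nat.card (G ⧸ K) = 60 := by
  rw [Nat.card_congr e.toEquiv, Nat.card_eq_fintype_card]
  decide +kernel

include hu hu2 e hC in
/-- All lifts of involutions are conjugate to `u`. -/
theorem conj_of_mem {g : G} (hg : g ∉ K) (hg2 : g * g ∈ K) : IsConj u g := by
  classical
  cases nonempty_fintype G
  have hinv : ∀ a : G, a ∉ K → a * a ∈ K → e (a : G ⧸ K) * e (a : G ⧸ K) = 1 ∧ e (a : G ⧸ K) ≠ 1 := by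
    intro a ha ha2
    refine ⟨by rw [← map_mul, ← QuotientGroup.mk_mul, (QuotientGroup.eq_one_iff _).2 ha2, map_one],
      fun h => ha ((QuotientGroup.eq_one_iff a).1 (e.injective (h.trans (map_one e).symm)))⟩
  obtain ⟨z₁, hz₁⟩ := alt_involutions_conj _ (hinv g hg hg2).1 (hinv g hg hg2).2
  obtain ⟨z₂, hz₂⟩ := alt_involutions_conj _ (hinv u hu hu2).1 (hinv u hu hu2).2
  have hz : z₂ * e (u : G ⧸ K) * z₂⁻¹ = z₁ * e (g : G ⧸ K) * z₁⁻¹ := Subtype.ext (hz₂.trans hz₁.symm)
  obtain ⟨t, ht⟩ := QuotientGroup.mk'_surjective K (e.symm (z₂⁻¹ * z₁))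
  have ht' : e (t : G ⧸ K) = z₂⁻¹ * z₁ := by
    rw [show ((t : G ⧸ K)) = e.symm (z₂⁻¹ * z₁) from ht, MulEquiv.apply_symm_apply]
  have hcoset : ((t * g * t⁻¹ : G) : G ⧸ K) = (u : G ⧸ K) := by
    refine e.injective ?_
    rw [QuotientGroup.mk_mul, QuotientGroup.mk_mul, QuotientGroup.mk_inv, map_mul, map_mul, map_inv, ht']
    rw [show e (u : G ⧸ K) = z₂⁻¹ * (z₂ * e (u : G ⧸ K) * z₂⁻¹) * z₂ by group, hz]
    group
  suffices h : ∀ a : G, (a : G ⧸ K) = (u : G ⧸ K) → IsConj u a from
    (h _ hcoset).trans (isConj_iff.2 ⟨t⁻¹, by group⟩)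
  set M : Finset G := Finset.univ.filter fun m => (m : G ⧸ K) * (u : G ⧸ K) = (u : G ⧸ K) * (m : G ⧸ K)
  set I := M.image fun m => m * u * m⁻¹
  set C : Finset G := Finset.univ.filter fun a => (a : G ⧸ K) = (u : G ⧸ K)
  have hIC : I ⊆ C := by
    intro a ha
    obtain ⟨m, hm, rfl⟩ := Finset.mem_image.1 ha
    refine Finset.mem_filter.2 ⟨Finset.mem_univ _, ?_⟩
    rw [QuotientGroup.mk_mul, QuotientGroup.mk_mul, QuotientGroup.mk_inv, (Finset.mem_filter.1 hm).2,
      mul_inv_cancel_right]
  have hfib : ∀ a ∈ I, (M.filter fun m => m * u * m⁻¹ = a).card ≤ 4 := by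
    intro a ha
    obtain ⟨m, -, rfl⟩ := Finset.mem_image.1 ha
    calc (M.filter fun x => x * u * x⁻¹ = m * u * m⁻¹).card
        ≤ (Finset.univ.filter fun c : G => c ∈ Subgroup.centralizer ({u} : Set G)).card := by
          refine Finset.card_le_card_of_injOn (fun x => m⁻¹ * x) (fun x hx => ?_) fun x _ y _ hxy => by
            simpa using hxy
          simp only [Finset.mem_coe, Finset.mem_filter] at hx ⊢
          refine ⟨Finset.mem_univ _, Subgroup.mem_centralizer_singleton_iff.2 ?_⟩
          calc m⁻¹ * x * u = m⁻¹ * (x * u * x⁻¹) * x := by group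
            _ = u * (m⁻¹ * x) := by rw [hx.2]; group
      _ = 4 := by rw [← Fintype.card_subtype, ← Nat.card_eq_fintype_card]; exact hC
  have hM : M.card = 4 * Nat.card K := by
    have h4 : Nat.card (Subgroup.centralizer ({(u : G ⧸ K)} : Set (G ⧸ K))) = 4 := by
      obtain ⟨h1, h2⟩ := hinv u hu hu2
      rw [← alt_involution_centralizer _ h1 h2, ← Fintype.card_subtype, ← Nat.card_eq_fintype_card]
      refine Nat.card_congr (Equiv.subtypeEquiv e.toEquiv fun y => ?_)
      rw [Subgroup.mem_centralizer_singleton_iff]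
      show _ ↔ e y * e (u : G ⧸ K) = e (u : G ⧸ K) * e y
      rw [← map_mul, ← map_mul, e.injective.eq_iff]
    have h := (Subgroup.centralizer ({(u : G ⧸ K)} : Set (G ⧸ K))).card_mul_index
    have hcomap := Subgroup.card_mul_index
      ((Subgroup.centralizer ({(u : G ⧸ K)} : Set (G ⧸ K))).comap (QuotientGroup.mk' K))
    rw [Subgroup.index_comap_of_surjective _ (QuotientGroup.mk'_surjective K)] at hcomap
    have hK := K.card_mul_index
    rw [Subgroup.index_eq_card] at hK
    rw [h4] at h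
    have hpos : 0 < (Subgroup.centralizer ({(u : G ⧸ K)} : Set (G ⧸ K))).index :=
      Nat.pos_of_ne_zero Subgroup.index_ne_zero_of_finite
    have hMc : M.card =
        Nat.card ((Subgroup.centralizer ({(u : G ⧸ K)} : Set (G ⧸ K))).comap (QuotientGroup.mk' K)) := by
      rw [← Fintype.card_subtype, ← Nat.card_eq_fintype_card]
      exact Nat.card_congr (Equiv.subtypeEquivRight fun m => by
        rw [Subgroup.mem_comap, Subgroup.mem_centralizer_singleton_iff]; rfl)
    rw [hMc]
    refine Nat.eq_of_mul_eq_mul_right hpos ?_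
    rw [hcomap, ← hK, ← h]
    ring
  have hCc : C.card = Nat.card K := by
    rw [← Fintype.card_subtype, ← Nat.card_eq_fintype_card]
    exact Nat.card_congr
      { toFun := fun a => ⟨u⁻¹ * a.1, QuotientGroup.eq.1 a.2.symm⟩
        invFun := fun k => ⟨u * k.1, by
          rw [QuotientGroup.mk_mul, (QuotientGroup.eq_one_iff _).2 k.2, mul_one]⟩
        left_inv := fun a => by simp
        right_inv := fun k => by simp }
  have hle : M.card ≤ 4 * I.card := Finset.card_le_mul_card_image M 4 hfib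
  have hIeq : I = C := Finset.eq_of_subset_of_card_le hIC (by omega)
  intro a ha
  obtain ⟨m, -, rfl⟩ := Finset.mem_image.1 (show a ∈ I by
    rw [hIeq]; exact Finset.mem_filter.2 ⟨Finset.mem_univ _, ha⟩)
  exact isConj_iff.2 ⟨m, rfl⟩

include hu hu2 e hC in
/-- If `u` is an involution then `K` is trivial. -/
theorem kernel_eq_bot (h2 : u * u = 1) : K = ⊥ := by
  classical
  cases nonempty_fintype G
  have hsq : ∀ g : G, g ∉ K → g * g ∈ K → g * g = 1 := by
    intro g hg hg2
    obtain ⟨t, rfl⟩ := isConj_iff.1 (conj_of_mem K hu hu2 e hC hg hg2)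
    calc t * u * t⁻¹ * (t * u * t⁻¹) = t * (u * u) * t⁻¹ := by group
      _ = 1 := by rw [h2, mul_one, mul_inv_cancel]
  have hx : e (u : G ⧸ K) * e (u : G ⧸ K) = 1 := by
    rw [← map_mul, ← QuotientGroup.mk_mul, (QuotientGroup.eq_one_iff _).2 hu2, map_one]
  have hx1 : e (u : G ⧸ K) ≠ 1 := fun h =>
    hu ((QuotientGroup.eq_one_iff u).1 (e.injective (h.trans (map_one e).symm)))
  obtain ⟨y, hyy, hy1, hyx, hxy⟩ := alt_commuting_involution _ hx hx1
  obtain ⟨v, hv⟩ := QuotientGroup.mk'_surjective K (e.symm y)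
  have hv' : e (v : G ⧸ K) = y := by
    rw [show ((v : G ⧸ K)) = e.symm y from hv, MulEquiv.apply_symm_apply]
  have hT : ∀ a : G, e (a : G ⧸ K) ≠ 1 → e (a : G ⧸ K) * e (a : G ⧸ K) = 1 → a ∉ K ∧ a * a ∈ K := by
    intro a ha ha2
    refine ⟨fun h => ha (by rw [(QuotientGroup.eq_one_iff a).2 h, map_one]), ?_⟩
    refine (QuotientGroup.eq_one_iff _).1 (e.injective ?_)
    rw [QuotientGroup.mk_mul, map_mul, ha2, map_one]
  obtain ⟨hvK, hv2⟩ := hT v (hv' ▸ hy1) (hv' ▸ hyy)
  have huv : e ((u * v : G) : G ⧸ K) = e (u : G ⧸ K) * y := by rw [QuotientGroup.mk_mul, map_mul, hv']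
  obtain ⟨huvK, huv2⟩ := hT (u * v)
    (fun h => hyx (by
      rw [huv] at h
      rw [← inv_eq_of_mul_eq_one_left hx]
      exact eq_inv_of_mul_eq_one_right h))
    (by rw [huv]; calc e (u : G ⧸ K) * y * (e (u : G ⧸ K) * y) = e (u : G ⧸ K) * (y * e (u : G ⧸ K)) * y := by group
          _ = 1 := by rw [← hxy, ← mul_assoc, hx, one_mul, hyy])
  have hinvK : ∀ a : G, a ∉ K → a * a ∈ K → ∀ k ∈ K, a * k * a⁻¹ = k⁻¹ := by
    intro a ha ha2 k hk
    have hak : a * k ∉ K := fun h => ha (by simpa using mul_mem h (inv_mem hk))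
    have hak2 : a * k * (a * k) ∈ K := by
      rw [show a * k * (a * k) = a * k * a⁻¹ * (a * a) * k by group]
      exact mul_mem (mul_mem ((inferInstance : K.Normal).conj_mem k hk a) ha2) hk
    have h := hsq _ hak hak2
    have ha1 : a⁻¹ = a := inv_eq_of_mul_eq_one_right (hsq a ha ha2)
    rw [ha1]
    exact eq_inv_of_mul_eq_one_left (by rw [← h]; group)
  have hsqK : ∀ k ∈ K, k * k = 1 ∧ u * k = k * u := by
    intro k hk
    have h1 := hinvK u hu hu2 k hk
    have h2' := hinvK v hvK hv2 k hk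
    have h3 := hinvK (u * v) huvK huv2 k hk
    have h4 : u * v * k * (u * v)⁻¹ = k := by
      calc u * v * k * (u * v)⁻¹ = u * (v * k * v⁻¹) * u⁻¹ := by group
        _ = (u * k * u⁻¹)⁻¹ := by rw [h2']; group
        _ = k := by rw [h1, inv_inv]
    have hkk : k = k⁻¹ := h4.symm.trans h3
    refine ⟨?_, ?_⟩
    · nth_rewrite 2 [hkk]; exact mul_inv_cancel k
    · rw [← hkk] at h1; exact mul_inv_eq_iff_eq_mul.1 h1
  rw [Subgroup.eq_bot_iff_forall]
  intro k hk
  by_contra hk1
  have hcomm : u * v = v * u := by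
    calc u * v = (u * v)⁻¹ := (inv_eq_of_mul_eq_one_right (hsq _ huvK huv2)).symm
      _ = v * u := by
        rw [mul_inv_rev, inv_eq_of_mul_eq_one_right (hsq v hvK hv2), inv_eq_of_mul_eq_one_right h2]
  have hsub : ({1, k, u, u * k, v} : Finset G) ⊆
      Finset.univ.filter fun c => c ∈ Subgroup.centralizer ({u} : Set G) := by
    intro a ha
    refine Finset.mem_filter.2 ⟨Finset.mem_univ _, Subgroup.mem_centralizer_singleton_iff.2 ?_⟩
    simp only [Finset.mem_insert, Finset.mem_singleton] at ha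
    rcases ha with rfl | rfl | rfl | rfl | rfl
    · simp
    · exact ((hsqK _ hk).2).symm
    · rfl
    · rw [mul_assoc, ← (hsqK _ hk).2]
    · exact hcomm.symm
  have hcard : ({1, k, u, u * k, v} : Finset G).card = 5 := by
    have n1 : (1 : G) ≠ k := Ne.symm hk1
    have n2 : (1 : G) ≠ u := fun h => hu (h ▸ one_mem K)
    have n3 : (1 : G) ≠ u * k := fun h => hu (by
      rw [show u = k⁻¹ from eq_inv_of_mul_eq_one_left h.symm]; exact inv_mem hk)
    have n4 : (1 : G) ≠ v := fun h => hvK (h ▸ one_mem K)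
    have n5 : k ≠ u := fun h => hu (h ▸ hk)
    have n6 : k ≠ u * k := fun h => n2 (show u = 1 by simpa using h).symm
    have n7 : k ≠ v := fun h => hvK (h ▸ hk)
    have n8 : u ≠ u * k := fun h => n1 (show k = 1 by simpa using h).symm
    have n9 : u ≠ v := fun h => hyx (by rw [← hv', ← h])
    have n10 : u * k ≠ v := fun h => hyx (by
      rw [← hv', ← h, QuotientGroup.mk_mul, (QuotientGroup.eq_one_iff k).2 hk, mul_one])
    simp [n1, n2, n3, n4, n5, n6, n7, n8, n9, n10]
  have h5 := Finset.card_le_card hsub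
  rw [hcard, ← Fintype.card_subtype, ← Nat.card_eq_fintype_card] at h5
  have hC' : Nat.card {c : G // c ∈ Subgroup.centralizer ({u} : Set G)} = 4 := hC
  omega

include hu hu2 e hC in
/-- If `u` has order four, the Sylow 2-subgroups are quaternion of order eight. -/
theorem sylow_facts (h4 : orderOf u = 4) (S : Sylow 2 G) :
    Nat.card ((S : Subgroup G).subgroupOf K) = 2 ∧ Nonempty ((S : Subgroup G) ≃* QuaternionGroup 2) := by
  classical
  cases nonempty_fintype G
  have : Fact (Nat.Prime 2) := ⟨Nat.prime_two⟩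
  have hC' : Subgroup.centralizer ({u} : Set G) = Subgroup.zpowers u :=
    (Subgroup.eq_of_le_of_card_ge (Subgroup.zpowers_le.2 (Subgroup.mem_centralizer_singleton_iff.2 rfl))
      (by rw [hC, Nat.card_zpowers, h4])).symm
  -- elements outside `K` with square inside behave like `u`
  have hlift : ∀ g : G, g ∉ K → g * g ∈ K → orderOf g = 4 ∧
      ∀ c : G, c * g = g * c → ∃ i : ℤ, g ^ i = c := by
    intro g hg hg2
    obtain ⟨t, rfl⟩ := isConj_iff.1 (conj_of_mem K hu hu2 e hC hg hg2)
    refine ⟨?_, fun c hc => ?_⟩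
    · exact ((MulAut.conj t).orderOf_eq u).trans h4
    · have hc' : t⁻¹ * c * t ∈ Subgroup.centralizer ({u} : Set G) := by
        rw [Subgroup.mem_centralizer_singleton_iff]
        calc t⁻¹ * c * t * u = t⁻¹ * (c * (t * u * t⁻¹)) * t := by group
          _ = u * (t⁻¹ * c * t) := by rw [hc]; group
      rw [hC', Subgroup.mem_zpowers_iff] at hc'
      obtain ⟨i, hi⟩ := hc'
      exact ⟨i, by rw [conj_zpow, hi]; group⟩
  -- the image of `S` in the quotient
  have himg : Nat.card ((S : Subgroup G).map (QuotientGroup.mk' K)) = 4 := by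
    let P := S.mapSurjective (QuotientGroup.mk'_surjective K)
    show Nat.card (P : Subgroup (G ⧸ K)) = 4
    rw [P.card_eq_multiplicity, card_quot K e, show (60 : ℕ) = 2 ^ 2 * 15 by norm_num,
      Nat.factorization_mul (by norm_num) (by norm_num), Nat.Prime.factorization_pow (by norm_num)]
    simp [Nat.factorization_eq_zero_of_not_dvd]
  have hsqK : ∀ s ∈ (S : Subgroup G), s * s ∈ K := by
    intro s hs
    have hm : ((s : G) : G ⧸ K) ∈ (S : Subgroup G).map (QuotientGroup.mk' K) := ⟨s, hs, rfl⟩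
    have hd := Subgroup.orderOf_dvd_natCard ((S : Subgroup G).map (QuotientGroup.mk' K)) hm
    rw [himg, orderOf_dvd_iff_pow_eq_one] at hd
    refine (QuotientGroup.eq_one_iff _).1 (e.injective ?_)
    rw [map_one, QuotientGroup.mk_mul, map_mul]
    refine alt_two_element _ ?_
    rw [← map_mul, ← map_mul, ← map_one e]
    congr 1
    rw [← hd, pow_succ, pow_succ, pow_succ, pow_one]; simp only [mul_assoc]
  -- elements of `S` outside `K`
  obtain ⟨a, ha, b, hb, haK, hbK, habK⟩ : ∃ a ∈ (S : Subgroup G), ∃ b ∈ (S : Subgroup G),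
      a ∉ K ∧ b ∉ K ∧ a⁻¹ * b ∉ K := by
    set A := (S : Subgroup G).map (QuotientGroup.mk' K)
    have h1 : ({1} : Finset (G ⧸ K)) ⊂ Finset.univ.filter fun x => x ∈ A := by
      refine Finset.ssubset_iff_subset_ne.2 ⟨by simp [one_mem], fun h => ?_⟩
      have h' := congrArg Finset.card h
      rw [Finset.card_singleton, ← Fintype.card_subtype, ← Nat.card_eq_fintype_card] at h'
      omega
    obtain ⟨x, hx, hx1⟩ := Finset.exists_of_ssubset h1
    have h2 : ({1, x} : Finset (G ⧸ K)) ⊂ Finset.univ.filter fun x => x ∈ A := by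
      refine Finset.ssubset_iff_subset_ne.2 ⟨?_, fun h => ?_⟩
      · intro z hz
        simp only [Finset.mem_insert, Finset.mem_singleton] at hz
        rcases hz with rfl | rfl
        · simp [one_mem]
        · exact hx
      · have h' := congrArg Finset.card h
        rw [Finset.card_pair (by simpa [eq_comm] using hx1), ← Fintype.card_subtype,
          ← Nat.card_eq_fintype_card] at h'
        omega
    obtain ⟨y, hy, hy1⟩ := Finset.exists_of_ssubset h2
    simp only [Finset.mem_filter, Finset.mem_insert, Finset.mem_singleton, Finset.mem_univ, true_and,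
      not_or] at hx hy hx1 hy1
    obtain ⟨a, ha, rfl⟩ := hx
    obtain ⟨b, hb, rfl⟩ := hy
    exact ⟨a, ha, b, hb, fun h => hx1 ((QuotientGroup.eq_one_iff a).2 h),
      fun h => hy1.1 ((QuotientGroup.eq_one_iff b).2 h), fun h => hy1.2 (QuotientGroup.eq.2 h).symm⟩
  -- a central involution
  have hSnt : Nontrivial (S : Subgroup G) := ⟨⟨⟨a, ha⟩, 1, fun h => haK (by
    rw [show a = 1 from congrArg Subtype.val h]; exact one_mem K)⟩⟩
  have hZ := S.isPGroup'.center_nontrivial
  obtain ⟨z, hz⟩ := exists_prime_orderOf_dvd_card' (G := Subgroup.center (S : Subgroup G)) 2 (by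
    obtain ⟨k, hk0, hk⟩ := (S.isPGroup'.to_subgroup (Subgroup.center _)).nontrivial_iff_card.1 hZ
    rw [hk]; exact dvd_pow_self 2 hk0.ne')
  set z₀ : G := ((z : (S : Subgroup G)) : G) with hz₀
  have hz₀o : orderOf z₀ = 2 := by rw [hz₀, Subgroup.orderOf_coe, Subgroup.orderOf_coe]; exact hz
  have hz₀S : z₀ ∈ (S : Subgroup G) := (z : (S : Subgroup G)).2
  have hz₀c : ∀ s ∈ (S : Subgroup G), z₀ * s = s * z₀ := fun s hs =>
    congrArg Subtype.val ((Subgroup.mem_center_iff.1 z.2) ⟨s, hs⟩).symm
  have hsq : ∀ x ∈ (S : Subgroup G), x ∉ K → x * x = z₀ := by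
    intro x hx hxK
    obtain ⟨hxo, hxc⟩ := hlift x hxK (hsqK x hx)
    obtain ⟨i, hi⟩ := hxc z₀ (hz₀c x hx)
    rw [← zpow_mod_orderOf, hxo] at hi
    have h2 : z₀ * z₀ = 1 := by rw [← pow_two, ← hz₀o, pow_orderOf_eq_one]
    have hne : z₀ ≠ 1 := fun h => by rw [h, orderOf_one] at hz₀o; norm_num at hz₀o
    have hx4 : x ^ 4 = 1 := by rw [← hxo, pow_orderOf_eq_one]
    have hx2 : x ^ 2 ≠ 1 := fun h => by
      have := orderOf_dvd_of_pow_eq_one h
      rw [hxo] at this; norm_num at this
    have hlt : i % ((4 : ℕ) : ℤ) = 0 ∨ i % ((4 : ℕ) : ℤ) = 1 ∨ i % ((4 : ℕ) : ℤ) = 2 ∨ i % ((4 : ℕ) : ℤ) = 3 := by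
      omega
    rcases hlt with h | h | h | h <;> rw [h] at hi
    · rw [zpow_zero] at hi; exact absurd hi.symm hne
    · rw [zpow_one] at hi; rw [← hi] at h2; exact absurd (by rw [pow_two]; exact h2) hx2
    · rw [← hi]; exact (pow_two x).symm.trans (zpow_natCast x 2).symm
    · exfalso
      apply hx2
      rw [show z₀ = x ^ 3 from hi.symm.trans (zpow_natCast x 3)] at h2
      calc x ^ 2 = x ^ 3 * x ^ 3 * (x ^ 4)⁻¹ := by group
        _ = 1 := by rw [h2, hx4, inv_one, mul_one]
  -- the intersection with `K`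
  have hinter : ∀ s ∈ (S : Subgroup G), s ∈ K → s = 1 ∨ s = z₀ := by
    intro s hs hsK
    have hinv : ∀ x ∈ (S : Subgroup G), x ∉ K → x⁻¹ * s * x = s⁻¹ := by
      intro x hx hxK
      have hxs : x * s ∉ K := fun h => hxK (by simpa using mul_mem h (inv_mem hsK))
      have h := hsq _ (mul_mem hx hs) hxs
      rw [← hsq x hx hxK] at h
      have h' : s * x * s = x := mul_left_cancel ((by group : x * (s * x * s) = x * s * (x * s)).trans h)
      calc x⁻¹ * s * x = x⁻¹ * (s * x * s) * s⁻¹ := by group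
        _ = s⁻¹ := by rw [h']; group
    have h1 := hinv a ha haK
    have h2 := hinv b hb hbK
    have h3 := hinv (a⁻¹ * b) (mul_mem (inv_mem ha) hb) habK
    have h4' : (a⁻¹ * b)⁻¹ * s * (a⁻¹ * b) = s := by
      calc (a⁻¹ * b)⁻¹ * s * (a⁻¹ * b) = b⁻¹ * (a * s * a⁻¹) * b := by group
        _ = b⁻¹ * s⁻¹ * b := by
          congr 2
          calc a * s * a⁻¹ = a * (a⁻¹ * s * a)⁻¹ * a⁻¹ := by rw [h1, inv_inv]
            _ = s⁻¹ := by group
        _ = (b⁻¹ * s * b)⁻¹ := by group
        _ = s := by rw [h2, inv_inv]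
    have hss : s = s⁻¹ := h4'.symm.trans h3
    rw [← hss] at h1
    have hcomm : s * a = a * s := by
      calc s * a = a * (a⁻¹ * s * a) := by group
        _ = a * s := by rw [h1]
    obtain ⟨hao, hac⟩ := hlift a haK (hsqK a ha)
    obtain ⟨i, hi⟩ := hac s hcomm
    rw [← zpow_mod_orderOf, hao] at hi
    have hlt : i % ((4 : ℕ) : ℤ) = 0 ∨ i % ((4 : ℕ) : ℤ) = 1 ∨ i % ((4 : ℕ) : ℤ) = 2 ∨ i % ((4 : ℕ) : ℤ) = 3 := by
      omega
    rcases hlt with h | h | h | h <;> rw [h] at hi
    · exact Or.inl (hi.symm.trans (zpow_zero a))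
    · rw [zpow_one] at hi; exact absurd (hi ▸ hsK) haK
    · exact Or.inr (hi.symm.trans ((zpow_natCast a 2).trans ((pow_two a).trans (hsq a ha haK))))
    · exfalso
      apply haK
      have h3' : a ^ 3 ∈ K := by rw [← zpow_natCast]; exact hi ▸ hsK
      have h2' : a * a ∈ K := hsqK a ha
      have h' := mul_mem (inv_mem h2') h3'
      rwa [show (a * a)⁻¹ * a ^ 3 = a by group] at h'
  have hz₀K : z₀ ∈ K := hsq a ha haK ▸ hsqK a ha
  have hne : z₀ ≠ 1 := fun h => by rw [h, orderOf_one] at hz₀o; norm_num at hz₀o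
  have hcard2 : Nat.card ((S : Subgroup G).subgroupOf K) = 2 := by
    rw [Nat.card_eq_two_iff]
    refine ⟨1, ⟨⟨z₀, hz₀K⟩, hz₀S⟩, fun h => hne (congrArg (fun x : ↥((S : Subgroup G).subgroupOf K) => ((x : K) : G)) h).symm, ?_⟩
    refine Set.eq_univ_of_forall fun x => ?_
    rcases hinter x.1.1 x.2 x.1.2 with h | h
    · exact Or.inl (Subtype.ext (Subtype.ext h))
    · exact Or.inr (Subtype.ext (Subtype.ext h))
  refine ⟨hcard2, ?_⟩
  have hS8 : Nat.card (S : Subgroup G) = 8 := by
    let f := (QuotientGroup.mk' K).comp (S : Subgroup G).subtype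
    have h := f.ker.card_mul_index
    rw [Subgroup.index_ker, MonoidHom.range_comp, Subgroup.range_subtype, himg] at h
    have hk : Nat.card f.ker = 2 := by
      refine Eq.trans ?_ hcard2
      exact Nat.card_congr
        { toFun := fun x => ⟨⟨x.1.1, (QuotientGroup.eq_one_iff _).1 x.2⟩, x.1.2⟩
          invFun := fun x => ⟨⟨x.1.1, x.2⟩, (QuotientGroup.eq_one_iff _).2 x.1.2⟩
          left_inv := fun _ => rfl
          right_inv := fun _ => rfl }
    rw [hk] at h
    exact h.symm
  have huniq : ∀ x y : (S : Subgroup G), orderOf x = 2 → orderOf y = 2 → x = y := by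
    have key : ∀ x : (S : Subgroup G), orderOf x = 2 → (x : G) = z₀ := by
      intro x hx
      have hxG : orderOf (x : G) = 2 := by rw [Subgroup.orderOf_coe]; exact hx
      by_cases hxK : (x : G) ∈ K
      · refine (hinter x.1 x.2 hxK).resolve_left fun h => ?_
        rw [h, orderOf_one] at hxG; norm_num at hxG
      · have := (hlift x.1 hxK (hsqK x.1 x.2)).1
        omega
    exact fun x y hx hy => Subtype.ext ((key x hx).trans (key y hy).symm)
  rcases Lib.TwoRankInter.isCyclic_or_quaternion_of_unique S.isPGroup' huniq with hc | ⟨n, ⟨f⟩⟩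
  · exfalso
    obtain ⟨i, hi⟩ := (hlift a haK (hsqK a ha)).2 b (by
      have := mul_comm' (⟨b, hb⟩ : (S : Subgroup G)) ⟨a, ha⟩
      exact congrArg Subtype.val this)
    rcases Int.emod_two_eq_zero_or_one i with h | h
    · exact hbK (by
        rw [← hi, show i = 2 * (i / 2) by omega, zpow_mul, zpow_two]
        exact zpow_mem (hsqK a ha) _)
    · exact habK (by
        rw [← hi, show i = 2 * (i / 2) + 1 by omega, zpow_add, zpow_mul, zpow_two, zpow_one]
        rw [show a⁻¹ * ((a * a) ^ (i / 2) * a) = a⁻¹ * (a * a) ^ (i / 2) * a⁻¹⁻¹ by group]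
        exact (inferInstance : K.Normal).conj_mem _ (zpow_mem (hsqK a ha) _) a⁻¹)
  · have h := (Nat.card_congr f.toEquiv).symm.trans hS8
    rw [Nat.card_eq_fintype_card, QuaternionGroup.card] at h
    have hn : n = 1 := by
      have : 2 ^ n = 2 ^ 1 := by omega
      exact Nat.pow_right_injective (le_refl 2) this
    subst hn
    exact ⟨f⟩

end

/-- An element acting on a subgroup as an involution without nontrivial fixed points inverts it. -/
theorem conj_eq_inv_of_fixed_free {G : Type u} [Group G] (Y : Subgroup G) [Finite Y] {x : G}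
    (hx : ∀ y ∈ Y, x * y * x⁻¹ ∈ Y) (hx2 : ∀ y ∈ Y, x * (x * y * x⁻¹) * x⁻¹ = y)
    (hfree : ∀ y ∈ Y, x * y * x⁻¹ = y → y = 1) : ∀ y ∈ Y, x * y * x⁻¹ = y⁻¹ := by
  intro w hw
  let f : Y → Y := fun y => ⟨(y : G)⁻¹ * (x * y * x⁻¹), mul_mem (inv_mem y.2) (hx y y.2)⟩
  have hf : Function.Injective f := by
    intro a b hab
    have h : (a : G)⁻¹ * (x * a * x⁻¹) = (b : G)⁻¹ * (x * b * x⁻¹) := congrArg Subtype.val hab
    have h1 : x * ((b : G) * (a : G)⁻¹)⁻¹ * x⁻¹ = ((b : G) * (a : G)⁻¹)⁻¹ := by
      calc x * ((b : G) * (a : G)⁻¹)⁻¹ * x⁻¹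
          = (a : G) * ((a : G)⁻¹ * (x * a * x⁻¹)) * (x * b * x⁻¹)⁻¹ := by group
        _ = ((b : G) * (a : G)⁻¹)⁻¹ := by rw [h]; group
    have h2 := hfree _ (inv_mem (mul_mem b.2 (inv_mem a.2))) h1
    rw [inv_eq_one, mul_inv_eq_one] at h2
    exact Subtype.ext h2.symm
  obtain ⟨y, hy⟩ := Finite.injective_iff_surjective.1 hf ⟨w, hw⟩
  have h : (y : G)⁻¹ * (x * y * x⁻¹) = w := congrArg Subtype.val hy
  rw [← h]
  calc x * ((y : G)⁻¹ * (x * y * x⁻¹)) * x⁻¹
      = (x * y * x⁻¹)⁻¹ * (x * (x * y * x⁻¹) * x⁻¹) := by group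
    _ = ((y : G)⁻¹ * (x * y * x⁻¹))⁻¹ := by rw [hx2 y y.2]; group

/-- The structure of a group with a perfect icosahedral quotient and a centraliser of order four. -/
theorem conclusion {G : Type u} [Group G] [Finite G] (K : Subgroup G) [K.Normal] {u : G}
    (hu : u ∉ K) (hu2 : u * u ∈ K) (e : G ⧸ K ≃* alternatingGroup (Fin 5))
    (hC : Nat.card (Subgroup.centralizer ({u} : Set G)) = 4) (hperf : commutator G = ⊤) :
    IsMulCommutative ↥(Cfsg.oddCore G) ∧
      ((Nonempty (G ⧸ Cfsg.oddCore G ≃* Matrix.ProjectiveSpecialLinearGroup (Fin 2) (ZMod 5)) ∧ orderOf u = 2) ∨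
        (Nonempty (G ⧸ Cfsg.oddCore G ≃* Matrix.SpecialLinearGroup (Fin 2) (ZMod 5)) ∧ orderOf u = 4)) := by
  classical
  have : Fact (Nat.Prime 2) := ⟨Nat.prime_two⟩
  have : Fact (Nat.Prime 5) := ⟨by norm_num⟩
  have h60 := card_quot K e
  have hsimp : IsSimpleGroup (G ⧸ K) := by
    have : Nontrivial (G ⧸ K) := Finite.one_lt_card_iff_nontrivial.mp (by omega)
    have hp : commutator (G ⧸ K) = ⊤ := by
      have h := Subgroup.map_commutator (⊤ : Subgroup G) ⊤ (QuotientGroup.mk' K)
      rw [Subgroup.map_top_of_surjective _ (QuotientGroup.mk'_surjective K)] at h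
      rw [commutator_def, ← h, ← commutator_def, hperf,
        Subgroup.map_top_of_surjective _ (QuotientGroup.mk'_surjective K)]
    exact isSimple_of_perfect_sixty _ hp h60
  have hodd : Odd (Nat.card (Cfsg.oddCore G)) := Nat.coprime_two_right.1 PSolvable.pPrimeCore_coprime
  have hON : (Cfsg.oddCore G).Normal := inferInstance
  have hOK : Cfsg.oddCore G ≤ K := by
    have hn : ((Cfsg.oddCore G).map (QuotientGroup.mk' K)).Normal :=
      Subgroup.Normal.map inferInstance _ (QuotientGroup.mk'_surjective K)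
    rcases hn.eq_bot_or_eq_top with h | h
    · rwa [Subgroup.map_eq_bot_iff, QuotientGroup.ker_mk'] at h
    · exfalso
      have hd := Subgroup.card_map_dvd (Cfsg.oddCore G) (QuotientGroup.mk' K)
      rw [h, Subgroup.card_top, h60] at hd
      exact Nat.not_even_iff_odd.2 hodd (even_iff_two_dvd.2 ((show (2 : ℕ) ∣ 60 by norm_num).trans hd))
  have ho : orderOf u = 2 ∨ orderOf u = 4 := by
    have hd := Subgroup.orderOf_dvd_natCard (Subgroup.centralizer ({u} : Set G))
      (Subgroup.mem_centralizer_singleton_iff.2 rfl : u ∈ Subgroup.centralizer ({u} : Set G))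
    rw [hC] at hd
    have hne : orderOf u ≠ 1 := fun h => hu (orderOf_eq_one_iff.1 h ▸ one_mem K)
    have h4 : orderOf u ∈ Nat.divisors 4 := Nat.mem_divisors.2 ⟨hd, by norm_num⟩
    rw [show Nat.divisors 4 = {1, 2, 4} by decide] at h4
    simp only [Finset.mem_insert, Finset.mem_singleton] at h4
    omega
  rcases ho with h2 | h4
  · have huu : u * u = 1 := by rw [← pow_two, ← h2, pow_orderOf_eq_one]
    have hKb := kernel_eq_bot K hu hu2 e hC huu
    have hOb : Cfsg.oddCore G = ⊥ := le_bot_iff.1 (hKb ▸ hOK)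
    refine ⟨?_, Or.inl ⟨?_, h2⟩⟩
    · exact ⟨⟨fun x y => Subtype.ext (by
        have hx : (x : G) = 1 := Subgroup.mem_bot.1 (hOb ▸ x.2)
        have hy : (y : G) = 1 := Subgroup.mem_bot.1 (hOb ▸ y.2)
        simp [hx, hy])⟩⟩
    · obtain ⟨f⟩ := Cfsg.Agent.S0253.result (F := ZMod 5) (ZMod.card 5)
      exact ⟨((QuotientGroup.quotientMulEquivOfEq (hOb.trans hKb.symm)).trans e).trans f.symm⟩
  · suffices hmain : Nonempty (G ⧸ Cfsg.oddCore G ≃* Matrix.SpecialLinearGroup (Fin 2) (ZMod 5)) ∧
        IsMulCommutative ↥(Cfsg.oddCore G) from ⟨hmain.2, Or.inr ⟨hmain.1, h4⟩⟩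
    obtain ⟨T⟩ := (inferInstance : Nonempty (Sylow 2 K))
    obtain ⟨S, hS⟩ := (T.isPGroup'.map K.subtype).exists_le_sylow
    obtain ⟨hK2, -⟩ := sylow_facts K hu hu2 e hC h4 S
    have hT : (T : Subgroup K) = (S : Subgroup G).subgroupOf K :=
      (T.is_maximal' (S.isPGroup'.comap_of_injective K.subtype Subtype.val_injective)
        fun x hx => hS ⟨x, hx, rfl⟩).symm
    have hTc : IsCyclic (T : Subgroup K) := by
      rw [hT]
      exact isCyclic_of_prime_card hK2
    have hev : Even (Nat.card K) := by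
      rw [even_iff_two_dvd]
      have := Subgroup.card_subgroup_dvd_card (T : Subgroup K)
      rwa [hT, hK2] at this
    obtain ⟨H, hHn, hH2⟩ := Lib.Involution.exists_index_two_of_isCyclic_sylow hev T hTc
    have hHodd : Odd (Nat.card H) := by
      have h := H.card_mul_index
      rw [hH2] at h
      rw [Nat.odd_iff]
      by_contra hne
      have hdv : 2 * 2 ∣ Nat.card K := ⟨Nat.card H / 2, by omega⟩
      have hm := T.card_eq_multiplicity
      rw [hT, hK2] at hm
      have h22 : 2 ≤ (Nat.card K).factorization 2 :=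
        (Nat.Prime.pow_dvd_iff_le_factorization Nat.prime_two Nat.card_pos.ne').1 hdv
      have : 2 ^ 2 ≤ 2 ^ (Nat.card K).factorization 2 := Nat.pow_le_pow_right (by norm_num) h22
      omega
    have hHmem : ∀ k : K, k ∈ H ↔ Odd (orderOf k) := by
      intro k
      constructor
      · intro hk
        exact hHodd.of_dvd_nat (Subgroup.orderOf_dvd_natCard H hk)
      · intro hk
        have h1 : orderOf (k : K ⧸ H) ∣ orderOf k := orderOf_map_dvd (QuotientGroup.mk' H) k
        have h2 : orderOf (k : K ⧸ H) ∣ 2 := by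
          have h := orderOf_dvd_natCard (k : K ⧸ H)
          rwa [← Subgroup.index_eq_card, hH2] at h
        have h3 : orderOf (k : K ⧸ H) = 1 := by
          rcases (Nat.dvd_prime Nat.prime_two).1 h2 with h | h
          · exact h
          · exfalso
            rw [h] at h1
            exact Nat.not_even_iff_odd.2 hk (even_iff_two_dvd.2 h1)
        exact (QuotientGroup.eq_one_iff k).1 (orderOf_eq_one_iff.1 h3)
    have hOeq : Cfsg.oddCore G = H.map K.subtype := by
      have hn : (H.map K.subtype).Normal := ⟨fun x hx g => by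
        obtain ⟨k, hk, rfl⟩ := hx
        refine ⟨⟨g * k * g⁻¹, (inferInstance : K.Normal).conj_mem k k.2 g⟩, ?_, rfl⟩
        rw [SetLike.mem_coe, hHmem] at hk ⊢
        rw [← Subgroup.orderOf_coe] at hk ⊢
        show Odd (orderOf (g * (k : G) * g⁻¹))
        rwa [show g * (k : G) * g⁻¹ = MulAut.conj g (k : G) from rfl, MulEquiv.orderOf_eq]⟩
      refine le_antisymm ?_ ?_
      · intro x hx
        refine ⟨⟨x, hOK hx⟩, ?_, rfl⟩
        rw [SetLike.mem_coe, hHmem, ← Subgroup.orderOf_coe]
        exact hodd.of_dvd_nat (Subgroup.orderOf_dvd_natCard _ hx)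
      · refine PSolvable.le_pPrimeCore ?_
        rw [Subgroup.card_map_of_injective (Subgroup.subtype_injective _)]
        exact Nat.coprime_two_right.2 hHodd
    have hcardQ : Nat.card (G ⧸ Cfsg.oddCore G) = 120 := by
      have h1 := (Cfsg.oddCore G).card_mul_index
      rw [hOeq, Subgroup.card_map_of_injective (Subgroup.subtype_injective _)] at h1
      have h2 := H.card_mul_index
      have h3 := K.card_mul_index
      rw [Subgroup.index_eq_card, h60] at h3
      rw [hH2] at h2
      rw [← Subgroup.index_eq_card, hOeq]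
      have hpos : 0 < Nat.card H := Nat.card_pos
      nlinarith
    have hns : ¬ Group.IsSolvable (G ⧸ Cfsg.oddCore G) := by
      intro hs
      have : Nontrivial (G ⧸ Cfsg.oddCore G) := Finite.one_lt_card_iff_nontrivial.mp (by omega)
      refine absurd ?_ (ne_of_lt (Group.IsSolvable.commutator_lt_top_of_nontrivial (G ⧸ Cfsg.oddCore G)))
      have h := Subgroup.map_commutator (⊤ : Subgroup G) ⊤ (QuotientGroup.mk' (Cfsg.oddCore G))
      rw [Subgroup.map_top_of_surjective _ (QuotientGroup.mk'_surjective _)] at h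
      rw [commutator_def, ← h, ← commutator_def, hperf,
        Subgroup.map_top_of_surjective _ (QuotientGroup.mk'_surjective _)]
    refine ⟨(Cfsg.Agent.S3378.result).1 _ hcardQ hns fun P => ?_, ?_⟩
    swap
    · -- the involution of `K` inverts the odd core
      have hzK : u * u ∈ K := hu2
      have hzo : orderOf (u * u) = 2 := by
        rw [← pow_two, orderOf_pow' u (by norm_num : 2 ≠ 0), h4]
        norm_num
      have hall : ∀ k : G, k ∈ K → orderOf k = 2 → ∃ c ∈ K, c * (u * u) * c⁻¹ = k := by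
        intro k hk hko
        obtain ⟨P₁, hP₁⟩ := (IsPGroup.of_card (p := 2) (n := 1) (by
          rw [Nat.card_zpowers, ← Subgroup.orderOf_coe, pow_one]; exact hzo) :
          IsPGroup 2 (Subgroup.zpowers (⟨u * u, hzK⟩ : K))).exists_le_sylow
        obtain ⟨P₂, hP₂⟩ := (IsPGroup.of_card (p := 2) (n := 1) (by
          rw [Nat.card_zpowers, ← Subgroup.orderOf_coe, pow_one]; exact hko) :
          IsPGroup 2 (Subgroup.zpowers (⟨k, hk⟩ : K))).exists_le_sylow
        have hP2 : Nat.card (P₂ : Subgroup K) = 2 := by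
          rw [Nat.card_congr (P₂.equiv T).toEquiv]
          show Nat.card (T : Subgroup K) = 2
          rw [hT, hK2]
        obtain ⟨c, hc⟩ := MulAction.exists_smul_eq K P₁ P₂
        have hm : c * ⟨u * u, hzK⟩ * c⁻¹ ∈ (P₂ : Subgroup K) := by
          rw [← hc, Sylow.coe_subgroup_smul]
          exact ⟨⟨u * u, hzK⟩, hP₁ (Subgroup.mem_zpowers _), rfl⟩
        have hne1 : c * ⟨u * u, hzK⟩ * c⁻¹ ≠ 1 := fun h => by
          have h' : u * u = 1 := congrArg Subtype.val (conj_eq_one_iff.1 h)
          rw [h', orderOf_one] at hzo; norm_num at hzo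
        have hne2 : (⟨k, hk⟩ : K) ≠ 1 := fun h => by
          rw [show k = 1 from congrArg Subtype.val h, orderOf_one] at hko; norm_num at hko
        obtain ⟨w, -, hw⟩ := (Nat.card_eq_two_iff' (1 : (P₂ : Subgroup K))).1 hP2
        have e1 := hw ⟨_, hm⟩ (fun h => hne1 (congrArg Subtype.val h))
        have e2 := hw ⟨_, hP₂ (Subgroup.mem_zpowers _)⟩ (fun h => hne2 (congrArg Subtype.val h))
        exact ⟨c, c.2, congrArg (fun x : (P₂ : Subgroup K) => ((x : K) : G)) (e1.trans e2.symm)⟩
      have hOodd : ∀ y ∈ Cfsg.oddCore G, y * y = 1 → y = 1 := by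
        intro y hy h
        have h1 : orderOf y ∣ 2 := orderOf_dvd_of_pow_eq_one (by rwa [pow_two])
        have h2 := hodd.of_dvd_nat (Subgroup.orderOf_dvd_natCard _ hy)
        rcases (Nat.dvd_prime Nat.prime_two).1 h1 with h' | h'
        · exact orderOf_eq_one_iff.1 h'
        · rw [h'] at h2; exact absurd h2 (by decide)
      -- lifts of commuting involutions centralizing the involution
      have hlift : ∀ q : G ⧸ K, q * q = 1 → q ≠ 1 →
          ∃ x : G, (x : G ⧸ K) = q ∧ x * (u * u) = u * u * x := by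
        intro q hq hq1
        obtain ⟨g, rfl⟩ := QuotientGroup.mk'_surjective K q
        obtain ⟨c, hc, hcg⟩ := hall (g * (u * u) * g⁻¹) ((inferInstance : K.Normal).conj_mem _ hzK g)
          (((MulAut.conj g).orderOf_eq (u * u)).trans hzo)
        refine ⟨c⁻¹ * g, ?_, ?_⟩
        · rw [QuotientGroup.mk_mul, QuotientGroup.mk_inv, (QuotientGroup.eq_one_iff c).2 hc, inv_one, one_mul]
          rfl
        · calc c⁻¹ * g * (u * u) = c⁻¹ * (g * (u * u) * g⁻¹) * g := by group
            _ = u * u * (c⁻¹ * g) := by rw [← hcg]; group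
      have hinvY : ∀ x : G, x ∉ K → x * x ∈ K → x * (u * u) = u * u * x →
          ∀ y ∈ Cfsg.oddCore G, y * (u * u) = u * u * y → x * y * x⁻¹ = y⁻¹ := by
        intro x hx hx2 hxz y hy hyz
        obtain ⟨t, ht⟩ := isConj_iff.1 (conj_of_mem K hu hu2 e hC hx hx2)
        have hxo : orderOf (x * x) = 2 := by
          rw [← ht, show t * u * t⁻¹ * (t * u * t⁻¹) = t * (u * u) * t⁻¹ by group]
          exact ((MulAut.conj t).orderOf_eq (u * u)).trans hzo
        have hxx : x * x = u * u := by
          -- both involutions of `K` commute, so their product lies in a two-element Sylow subgroup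
          by_contra hne
          have hcomm : Commute (x * x) (u * u) := (Commute.mul_left hxz hxz : Commute (x * x) (u * u))
          obtain ⟨c, hc, hcx⟩ := hall (x * x) hx2 hxo
          have hprod : (x * x * (u * u)) * (x * x * (u * u)) = 1 := by
            rw [hcomm.symm.mul_mul_mul_comm, show x * x * (x * x) = 1 by rw [← pow_two, ← hxo, pow_orderOf_eq_one],
              one_mul, ← pow_two, ← hzo, pow_orderOf_eq_one]
          have hmem : x * x * (u * u) ∈ Cfsg.oddCore G := by
            rw [hOeq]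
            refine ⟨⟨x * x, hx2⟩ * ⟨u * u, hzK⟩, ?_, rfl⟩
            rw [SetLike.mem_coe, Subgroup.mul_mem_iff_of_index_two hH2]
            constructor
            · intro hh
              rw [hHmem, ← Subgroup.orderOf_coe] at hh
              rw [hxo] at hh
              exact absurd hh (by decide)
            · intro hh
              rw [hHmem, ← Subgroup.orderOf_coe] at hh
              rw [hzo] at hh
              exact absurd hh (by decide)
          have h1 := hOodd _ hmem hprod
          rw [mul_eq_one_iff_eq_inv] at h1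
          exact hne (h1.trans (inv_eq_of_mul_eq_one_right (by rw [← pow_two, ← hzo, pow_orderOf_eq_one])))
        let Y : Subgroup G := Cfsg.oddCore G ⊓ Subgroup.centralizer ({u * u} : Set G)
        refine conj_eq_inv_of_fixed_free Y (fun w hw => ?_) (fun w hw => ?_) (fun w hw hfix => ?_) y
          ⟨hy, Subgroup.mem_centralizer_singleton_iff.2 hyz⟩
        · refine ⟨hON.conj_mem w hw.1 x, Subgroup.mem_centralizer_singleton_iff.2 ?_⟩
          have h1 := Subgroup.mem_centralizer_singleton_iff.1 hw.2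
          have h2 : x⁻¹ * (u * u) = u * u * x⁻¹ := (Commute.inv_left (hxz : Commute x (u * u))).eq
          calc x * w * x⁻¹ * (u * u) = x * w * (x⁻¹ * (u * u)) := by group
            _ = x * (w * (u * u)) * x⁻¹ := by rw [h2]; group
            _ = (x * (u * u)) * w * x⁻¹ := by rw [h1]; group
            _ = u * u * (x * w * x⁻¹) := by rw [hxz]; group
        · have h1 := Subgroup.mem_centralizer_singleton_iff.1 hw.2
          calc x * (x * w * x⁻¹) * x⁻¹ = (x * x) * w * (x * x)⁻¹ := by group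
            _ = w * (u * u) * (u * u)⁻¹ := by rw [hxx, h1]
            _ = w := by group
        · -- the centralizer of `x` is cyclic of order four
          have hxo4 : orderOf x = 4 := by rw [← ht]; exact ((MulAut.conj t).orderOf_eq u).trans h4
          have hcx : Nat.card (Subgroup.centralizer ({x} : Set G)) = 4 := by
            cases nonempty_fintype G
            rw [← hC]
            exact Cfsg.Agent.Lib.Chars.card_centralizer_eq_of_isConj (isConj_iff.2 ⟨t, ht⟩).symm
          have hw' : w ∈ Subgroup.centralizer ({x} : Set G) :=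
            Subgroup.mem_centralizer_singleton_iff.2 (mul_inv_eq_iff_eq_mul.1 hfix).symm
          have hd := Subgroup.orderOf_dvd_natCard _ hw'
          rw [hcx, show (4 : ℕ) = 2 ^ 2 by norm_num] at hd
          have h2 := hodd.of_dvd_nat (Subgroup.orderOf_dvd_natCard _ hw.1)
          exact orderOf_eq_one_iff.1 (Nat.eq_one_of_dvd_coprimes
            (Nat.Coprime.pow_right 2 (Nat.coprime_two_right.2 h2)) dvd_rfl hd)
      have hzfree : ∀ y ∈ Cfsg.oddCore G, u * u * y * (u * u)⁻¹ = y → y = 1 := by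
        intro y hy hfix
        have hyz : y * (u * u) = u * u * y := (mul_inv_eq_iff_eq_mul.1 hfix).symm
        have hux : e (u : G ⧸ K) * e (u : G ⧸ K) = 1 := by
          rw [← map_mul, ← QuotientGroup.mk_mul, (QuotientGroup.eq_one_iff _).2 hu2, map_one]
        have hu1 : e (u : G ⧸ K) ≠ 1 := fun h =>
          hu ((QuotientGroup.eq_one_iff u).1 (e.injective (h.trans (map_one e).symm)))
        obtain ⟨q, hqq, hq1, hqu, hqc⟩ := alt_commuting_involution _ hux hu1
        obtain ⟨v, hv, hvz⟩ := hlift (e.symm q) (by rw [← map_mul, hqq, map_one])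
          (fun h => hq1 (by rw [← e.apply_symm_apply q, h, map_one]))
        have hev : e (v : G ⧸ K) = q := by rw [hv, MulEquiv.apply_symm_apply]
        have hmem : ∀ x : G, e (x : G ⧸ K) ≠ 1 → e (x : G ⧸ K) * e (x : G ⧸ K) = 1 → x ∉ K ∧ x * x ∈ K := by
          intro x hx1 hx2
          refine ⟨fun h => hx1 (by rw [(QuotientGroup.eq_one_iff x).2 h, map_one]), ?_⟩
          refine (QuotientGroup.eq_one_iff _).1 (e.injective ?_)
          rw [QuotientGroup.mk_mul, map_mul, hx2, map_one]
        have huv : e ((u * v : G) : G ⧸ K) = e (u : G ⧸ K) * q := by rw [QuotientGroup.mk_mul, map_mul, hev]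
        obtain ⟨a1, a2⟩ := hmem v (hev ▸ hq1) (hev ▸ hqq)
        obtain ⟨b1, b2⟩ := hmem (u * v) (fun h => hqu (by
            rw [huv] at h
            rw [← inv_eq_of_mul_eq_one_left hux]
            exact eq_inv_of_mul_eq_one_right h))
          (by rw [huv]; calc e (u : G ⧸ K) * q * (e (u : G ⧸ K) * q) = e (u : G ⧸ K) * (q * e (u : G ⧸ K)) * q := by group
                _ = 1 := by rw [← hqc, ← mul_assoc, hux, one_mul, hqq])
        have h1 := hinvY u hu hu2 (by group) y hy hyz
        have h2 := hinvY v a1 a2 hvz y hy hyz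
        have h3 := hinvY (u * v) b1 b2 (by
          rw [mul_assoc, hvz, ← mul_assoc, show u * (u * u) = u * u * u by group, mul_assoc]) y hy hyz
        have h4' : u * v * y * (u * v)⁻¹ = y := by
          calc u * v * y * (u * v)⁻¹ = u * (v * y * v⁻¹) * u⁻¹ := by group
            _ = (u * y * u⁻¹)⁻¹ := by rw [h2]; group
            _ = y := by rw [h1, inv_inv]
        have hyy : y = y⁻¹ := h4'.symm.trans h3
        exact hOodd y hy (by nth_rewrite 2 [hyy]; exact mul_inv_cancel y)
      have hzz : u * u * (u * u) = 1 := by rw [← pow_two, ← hzo, pow_orderOf_eq_one]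
      have hinv := conj_eq_inv_of_fixed_free (Cfsg.oddCore G) (x := u * u)
        (fun y hy => hON.conj_mem y hy _)
        (fun y _ => by
          calc u * u * (u * u * y * (u * u)⁻¹) * (u * u)⁻¹
              = (u * u * (u * u)) * y * (u * u * (u * u))⁻¹ := by group
            _ = y := by rw [hzz]; group)
        hzfree
      refine ⟨⟨fun a b => Subtype.ext ?_⟩⟩
      have ha := hinv (a : G) a.2
      have hb := hinv (b : G) b.2
      have hab := hinv ((a : G) * b) (mul_mem a.2 b.2)
      show (a : G) * b = b * a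
      calc (a : G) * b = ((b : G)⁻¹ * (a : G)⁻¹)⁻¹ := by group
        _ = ((u * u * ((a : G) * b) * (u * u)⁻¹))⁻¹ := by rw [hab]; group
        _ = ((u * u * (a : G) * (u * u)⁻¹) * (u * u * b * (u * u)⁻¹))⁻¹ := by group
        _ = b * a := by rw [ha, hb]; group
    obtain ⟨-, ⟨f⟩⟩ := sylow_facts K hu hu2 e hC h4 S
    set π := QuotientGroup.mk' (Cfsg.oddCore G)
    let P' := S.mapSurjective (QuotientGroup.mk'_surjective (Cfsg.oddCore G))
    have hinj : Function.Injective (π.subgroupMap (S : Subgroup G)) := by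
      rw [injective_iff_map_eq_one]
      intro x hx
      have hxO : (x : G) ∈ Cfsg.oddCore G := (QuotientGroup.eq_one_iff _).1 (congrArg Subtype.val hx)
      obtain ⟨k, hk⟩ := S.isPGroup' x
      have h1 : orderOf x ∣ 2 ^ k := orderOf_dvd_of_pow_eq_one hk
      have h2 : Odd (orderOf x) := by
        rw [← Subgroup.orderOf_coe]; exact hodd.of_dvd_nat (Subgroup.orderOf_dvd_natCard _ hxO)
      exact orderOf_eq_one_iff.1 (Nat.eq_one_of_dvd_coprimes
        (Nat.Coprime.pow_right k (Nat.coprime_two_right.2 h2)) dvd_rfl h1)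
    let g := MulEquiv.ofBijective _ ⟨hinj, π.subgroupMap_surjective (S : Subgroup G)⟩
    exact ⟨((P.equiv P').trans g.symm).trans f⟩

end Cfsg.Agent.Lib.DiffFour
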