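import Cfsg.Agent.Lib.DiffFour.Partition
import Cfsg.Agent.Lib.Chars.Ops
import Cfsg.Agent.Lib.Chars.RealRep

/-!
# Faithful real representations of degree three of perfect groups
-/

set_option autoImplicit false
set_option linter.unusedSectionVars false

namespace Cfsg.Agent.Lib.DiffFour

open scoped Matrix ComplexConjugate
open Cfsg.Agent.Lib.Chars (matHom trace_matHom trace_matHom_mul invForms exists_eigenbasis)

universe u

variable {G : Type u} [Group G]

/-- A representation of a perfect group has determinant one. -/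
theorem det_eq_one {n : ℕ} (ρ : Representation ℂ G (Fin n → ℂ)) (hperf : commutator G = ⊤) (g : G) :
    (matHom ρ g).det = 1 := by
  let φ : G →* ℂ := (Matrix.detMonoidHom (n := Fin n) (R := ℂ)).comp (matHom ρ)
  have h := Abelianization.commutator_subset_ker φ.toHomUnits (hperf ▸ Subgroup.mem_top g)
  exact congrArg Units.val (MonoidHom.mem_ker.1 h)

theorem trace_sq_three (A : Matrix (Fin 3) (Fin 3) ℂ) :
    (A * A).trace = A.trace * A.trace - 2 * A.adjugate.trace := by
  simp [Matrix.trace, Fin.sum_univ_three, Matrix.adjugate_fin_three, Matrix.mul_apply]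
  ring

theorem det_sub_one_three (A : Matrix (Fin 3) (Fin 3) ℂ) :
    (A - 1).det = A.det - A.adjugate.trace + A.trace - 1 := by
  simp [Matrix.trace, Fin.sum_univ_three, Matrix.adjugate_fin_three, Matrix.det_fin_three]
  ring

section Finite

variable [Finite G]

theorem trace_adjugate (ρ : Representation ℂ G (Fin 3 → ℂ)) (hperf : commutator G = ⊤) (g : G) :
    (matHom ρ g).adjugate.trace = conj (ρ.character g) := by
  cases nonempty_fintype G
  have h1 : matHom ρ g * matHom ρ g⁻¹ = 1 := by rw [← map_mul, mul_inv_cancel, map_one]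
  have h2 : (matHom ρ g).adjugate = matHom ρ g⁻¹ := by
    rw [← mul_one (matHom ρ g).adjugate, ← h1, ← mul_assoc, Matrix.adjugate_mul,
      det_eq_one ρ hperf, one_smul, one_mul]
  rw [h2, trace_matHom, Lib.Chars.char_inv]

/-- The value at the square of a character of degree three of a perfect group. -/
theorem char_sq_three (ρ : Representation ℂ G (Fin 3 → ℂ)) (hperf : commutator G = ⊤) (g : G) :
    ρ.character (g * g) = ρ.character g * ρ.character g - 2 * conj (ρ.character g) := by
  cases nonempty_fintype G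
  rw [← trace_matHom_mul, trace_sq_three, trace_matHom, trace_adjugate ρ hperf]

section Real

variable (ρ : Representation ℂ G (Fin 3 → ℂ))

/-- The pointwise stabiliser of the fixed points of an element. -/
def fixSub (g : G) : Subgroup G where
  carrier := {x | ∀ v, ρ g v = v → ρ x v = v}
  one_mem' v _ := by simp
  mul_mem' {a b} ha hb v hv := by rw [map_mul, Module.End.mul_apply, hb v hv, ha v hv]
  inv_mem' {a} ha v hv := by
    have h := congrArg (ρ a⁻¹) (ha v hv)
    rwa [← Module.End.mul_apply, ← map_mul, inv_mul_cancel, map_one, Module.End.one_apply, eq_comm] at h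

theorem mem_fixSub {g x : G} : x ∈ fixSub ρ g ↔ ∀ v, ρ g v = v → ρ x v = v := Iff.rfl

variable (hperf : commutator G = ⊤) (hreal : ∀ g : G, (ρ.character g).im = 0)
  (hfaith : ∀ g : G, ρ g = 1 → g = 1)

include hperf hreal in
theorem exists_fixed (g : G) : ∃ v : Fin 3 → ℂ, v ≠ 0 ∧ ρ g v = v := by
  cases nonempty_fintype G
  have hdet : (matHom ρ g - 1).det = 0 := by
    rw [det_sub_one_three, det_eq_one ρ hperf, trace_adjugate ρ hperf, trace_matHom,
      Complex.conj_eq_iff_im.mpr (hreal g)]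
    ring
  obtain ⟨v, hv, hv'⟩ := Matrix.exists_mulVec_eq_zero_iff.2 hdet
  refine ⟨v, hv, ?_⟩
  rw [Matrix.sub_mulVec, Matrix.one_mulVec, sub_eq_zero] at hv'
  exact (LinearMap.toMatrix'_mulVec _ _).symm.trans hv'

include hperf hfaith in
/-- The eigen data of a nontrivial element with a fixed vector. -/
theorem eigen_data {g : G} (hg : g ≠ 1) {v : Fin 3 → ℂ} (hv : v ≠ 0) (hgv : ρ g v = v) :
    ∃ (ι : Type) (_ : Fintype ι) (b : Module.Basis ι ℂ (Fin 3 → ℂ)) (μ : ι → ℂ) (i₀ : ι) (c : ℂ),
      (∀ i, ρ g (b i) = μ i • b i) ∧ μ i₀ = 1 ∧ (∀ i, i ≠ i₀ → μ i ≠ 1) ∧ v = c • b i₀ ∧ c ≠ 0 ∧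
        ∀ w, ρ g w = w → ∃ d : ℂ, w = d • b i₀ := by
  classical
  cases nonempty_fintype G
  obtain ⟨ι, hι, b, μ, -, hb⟩ := exists_eigenbasis ρ g
  have hcard : Fintype.card ι = 3 := by
    rw [← Module.finrank_eq_card_basis b, Module.finrank_fintype_fun_eq_card, Fintype.card_fin]
  have hdet : ∏ i, μ i = 1 := by
    have h := det_eq_one ρ hperf g
    change (LinearMap.toMatrix' (ρ g)).det = 1 at h
    rw [LinearMap.det_toMatrix', ← LinearMap.det_toMatrix b] at h
    have hd : LinearMap.toMatrix b b (ρ g) = Matrix.diagonal μ := by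
      ext i j
      rw [LinearMap.toMatrix_apply, hb, map_smul, Finsupp.smul_apply, b.repr_self, Matrix.diagonal_apply]
      rcases eq_or_ne i j with rfl | hij
      · simp
      · simp [hij]
    rwa [hd, Matrix.det_diagonal] at h
  have hcoord : ∀ w, ρ g w = w → ∀ i, μ i ≠ 1 → b.repr w i = 0 := by
    intro w hw i hi
    have h1 : b.repr (ρ g w) i = μ i * b.repr w i := by
      conv_lhs => rw [← b.sum_repr w, map_sum]
      simp [map_smul, hb, Finsupp.single_apply, mul_comm]
    rw [hw] at h1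
    by_contra hne
    exact hi (mul_right_cancel₀ hne (h1.symm.trans (one_mul _).symm))
  obtain ⟨i₀, hi₀⟩ : ∃ i, b.repr v i ≠ 0 := by
    by_contra! hall
    exact hv (b.repr.injective (Finsupp.ext fun i => by simp [hall i]))
  have hμ₀ : μ i₀ = 1 := by
    by_contra hne
    exact hi₀ (hcoord v hgv i₀ hne)
  have huniq : ∀ i, i ≠ i₀ → μ i ≠ 1 := by
    intro j hj hμj
    refine hg (hfaith g (b.ext fun k => ?_))
    rw [hb, Module.End.one_apply]
    suffices μ k = 1 by rw [this, one_smul]
    by_contra hk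
    have hk0 : k ≠ i₀ := fun h => hk (h ▸ hμ₀)
    have hkj : k ≠ j := fun h => hk (h ▸ hμj)
    have hu : (Finset.univ : Finset ι) = {k, i₀, j} := (Finset.eq_univ_of_card _ (by
      rw [Finset.card_insert_of_notMem (by simp [hk0, hkj]), Finset.card_pair hj.symm, hcard])).symm
    rw [hu, Finset.prod_insert (by simp [hk0, hkj]), Finset.prod_pair hj.symm, hμ₀, hμj, mul_one,
      mul_one] at hdet
    exact hk hdet
  have hspan : ∀ w, ρ g w = w → w = b.repr w i₀ • b i₀ := by
    intro w hw
    conv_lhs => rw [← b.sum_repr w]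
    exact Finset.sum_eq_single i₀ (fun i _ hi => by rw [hcoord w hw i (huniq i hi), zero_smul])
      (by simp)
  exact ⟨ι, hι, b, μ, i₀, b.repr v i₀, hb, hμ₀, huniq, hspan v hgv, hi₀, fun w hw => ⟨_, hspan w hw⟩⟩

include hperf hfaith in
theorem fixed_unique {g : G} (hg : g ≠ 1) {v : Fin 3 → ℂ} (hv : v ≠ 0) (hgv : ρ g v = v)
    {w : Fin 3 → ℂ} (hw : ρ g w = w) : ∃ c : ℂ, w = c • v := by
  obtain ⟨ι, hι, b, μ, i₀, c, -, -, -, hvc, hc, hall⟩ := eigen_data ρ hperf hfaith hg hv hgv
  obtain ⟨d, hd⟩ := hall w hw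
  exact ⟨d / c, by rw [hvc, smul_smul, div_mul_cancel₀ d hc, hd]⟩

theorem eq_top_or_bot [ρ.IsIrreducible] (W : Submodule ℂ (Fin 3 → ℂ))
    (hW : ∀ (g : G), ∀ v ∈ W, ρ g v ∈ W) : W = ⊥ ∨ W = ⊤ := by
  rcases IsSimpleOrder.eq_bot_or_eq_top
    (⟨W, fun g v hv => hW g v hv⟩ : Subrepresentation ρ) with h | h
  · exact Or.inl (congrArg Subrepresentation.toSubmodule h)
  · exact Or.inr (congrArg Subrepresentation.toSubmodule h)

include hperf hreal hfaith in
/-- The scalar by which an element preserving a fixed line acts on it is a sign. -/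
theorem scalar_sq [ρ.IsIrreducible] {g : G} (hg : g ≠ 1) {v : Fin 3 → ℂ} (hv : v ≠ 0)
    (hgv : ρ g v = v) {y : G} {c : ℂ} (hy : ρ y v = c • v) : c * c = 1 := by
  classical
  cases nonempty_fintype G
  obtain ⟨⟨M, hM0, hM⟩, -⟩ := Lib.Chars.forms_of_real ρ hreal
  have hM' : ∀ x, (matHom ρ x)ᵀ * M * matHom ρ x = M := hM
  set B : (Fin 3 → ℂ) → (Fin 3 → ℂ) → ℂ := fun a w => a ⬝ᵥ (M *ᵥ w) with hB
  have hinv : ∀ x a w, B (ρ x a) (ρ x w) = B a w := by
    intro x a w
    have e : ∀ z, ρ x z = matHom ρ x *ᵥ z := fun z => (LinearMap.toMatrix'_mulVec _ _).symm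
    simp only [hB, e]
    rw [Matrix.mulVec_mulVec, Matrix.dotProduct_mulVec, Matrix.vecMul_mulVec, ← Matrix.mul_assoc,
      hM', ← Matrix.dotProduct_mulVec]
  have hker : LinearMap.ker (Matrix.toLin' M) = ⊥ := by
    refine (eq_top_or_bot ρ _ fun x w hw => ?_).resolve_right fun h => hM0 ?_
    · rw [LinearMap.mem_ker, Matrix.toLin'_apply] at hw ⊢
      have hall : ∀ a, a ⬝ᵥ (M *ᵥ ρ x w) = 0 := by
        intro a
        have h := hinv x (ρ x⁻¹ a) w
        rw [← Module.End.mul_apply, ← map_mul, mul_inv_cancel, map_one, Module.End.one_apply] at h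
        simp only [hB, hw, dotProduct_zero] at h
        exact h
      exact dotProduct_eq_zero_iff.1 fun a => by rw [dotProduct_comm]; exact hall a
    · rw [LinearMap.ker_eq_top] at h
      exact Matrix.toLin'.injective (h.trans (map_zero _).symm)
  obtain ⟨ι, hι, b, μ, i₀, d, hb, hμ₀, huniq, hvd, hd, -⟩ := eigen_data ρ hperf hfaith hg hv hgv
  have hzero : ∀ i, i ≠ i₀ → B (b i) v = 0 := by
    intro i hi
    have h := hinv g (b i) v
    rw [hgv, hb] at h
    simp only [hB, smul_dotProduct, smul_eq_mul] at h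
    by_contra hne
    exact huniq i hi (mul_right_cancel₀ hne (h.trans (one_mul _).symm))
  have hvv : B v v ≠ 0 := by
    intro h0
    have h1 : B (b i₀) v = 0 := by
      simp only [hB] at h0 ⊢
      rw [show (v ⬝ᵥ (M *ᵥ v)) = d * (b i₀ ⬝ᵥ (M *ᵥ v)) by
        conv_lhs => arg 1; rw [hvd]
        rw [smul_dotProduct, smul_eq_mul]] at h0
      exact (mul_eq_zero.1 h0).resolve_left hd
    have h2 : M *ᵥ v = 0 := dotProduct_eq_zero_iff.1 fun a => by
      rw [dotProduct_comm, ← b.sum_repr a, sum_dotProduct]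
      refine Finset.sum_eq_zero fun i _ => ?_
      rw [smul_dotProduct]
      rcases eq_or_ne i i₀ with rfl | hi
      · rw [show b i ⬝ᵥ (M *ᵥ v) = 0 from h1, smul_zero]
      · rw [show b i ⬝ᵥ (M *ᵥ v) = 0 from hzero i hi, smul_zero]
    have h3 : v ∈ LinearMap.ker (Matrix.toLin' M) := by rw [LinearMap.mem_ker, Matrix.toLin'_apply, h2]
    rw [hker, Submodule.mem_bot] at h3
    exact hv h3
  have h := hinv y v v
  rw [hy] at h
  simp only [hB, smul_dotProduct, Matrix.mulVec_smul, dotProduct_smul, smul_eq_mul] at h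
  refine mul_right_cancel₀ hvv ?_
  rw [one_mul, hB, mul_assoc]
  exact h

include hperf hreal hfaith in
/-- A perfect group with a faithful real irreducible representation of degree three has order 60. -/
theorem card_eq_sixty [ρ.IsIrreducible] :
    Nat.card G = 12 ∨ Nat.card G = 24 ∨ Nat.card G = 60 := by
  classical
  have hne : ∃ g : G, g ≠ 1 := by
    by_contra! hall
    have hno : ∀ W : Submodule ℂ (Fin 3 → ℂ), W = ⊥ ∨ W = ⊤ := fun W =>
      eq_top_or_bot ρ W fun g v hv => by rwa [hall g, map_one, Module.End.one_apply]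
    rcases hno (ℂ ∙ (Pi.single 0 1 : Fin 3 → ℂ)) with h | h
    · simp at h
    · have h1 : Module.finrank ℂ (ℂ ∙ (Pi.single 0 1 : Fin 3 → ℂ)) = 1 := finrank_span_singleton (by simp)
      rw [h, finrank_top, Module.finrank_fintype_fun_eq_card, Fintype.card_fin] at h1
      omega
  have heq : ∀ g x : G, g ≠ 1 → x ∈ fixSub ρ g → x ≠ 1 → fixSub ρ x = fixSub ρ g := by
    intro g x hg hx hx1
    obtain ⟨v, hv, hgv⟩ := exists_fixed ρ hperf hreal g
    have hxv : ρ x v = v := hx v hgv
    ext z
    constructor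
    · intro hz w hw
      obtain ⟨c, rfl⟩ := fixed_unique ρ hperf hfaith hg hv hgv hw
      rw [map_smul, hz v hxv]
    · intro hz w hw
      obtain ⟨c, rfl⟩ := fixed_unique ρ hperf hfaith hx1 hv hxv hw
      rw [map_smul, hz v hgv]
  have hback : ∀ (y : G) (w : Fin 3 → ℂ), ρ y (ρ y⁻¹ w) = w := fun y w => by
    rw [← Module.End.mul_apply, ← map_mul, mul_inv_cancel, map_one, Module.End.one_apply]
  have hback' : ∀ (y : G) (w : Fin 3 → ℂ), ρ y⁻¹ (ρ y w) = w := fun y w => by
    rw [← Module.End.mul_apply, ← map_mul, inv_mul_cancel, map_one, Module.End.one_apply]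
  have hconj : ∀ y g : G, (fixSub ρ g).map (MulAut.conj y).toMonoidHom = fixSub ρ (y * g * y⁻¹) := by
    intro y g
    ext x
    rw [Subgroup.mem_map_equiv, MulAut.conj_symm_apply, mem_fixSub, mem_fixSub]
    constructor
    · intro h w hw
      rw [map_mul, map_mul, Module.End.mul_apply, Module.End.mul_apply] at hw
      have h1 : ρ g (ρ y⁻¹ w) = ρ y⁻¹ w := by
        conv_rhs => rw [← hw, hback']
      have h2 := h _ h1
      rw [map_mul, map_mul, Module.End.mul_apply, Module.End.mul_apply, hback] at h2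
      have h3 := congrArg (ρ y) h2
      rwa [hback, hback] at h3
    · intro h w hw
      have h1 : ρ (y * g * y⁻¹) (ρ y w) = ρ y w := by
        rw [map_mul, map_mul, Module.End.mul_apply, Module.End.mul_apply, hback', hw]
      have h2 := h _ h1
      rw [map_mul, map_mul, Module.End.mul_apply, Module.End.mul_apply, h2, hback']
  have hline : ∀ g y : G, g ≠ 1 → fixSub ρ (y * g * y⁻¹) = fixSub ρ g →
      ∀ v, v ≠ 0 → ρ g v = v → ∃ c : ℂ, ρ y v = c • v := by
    intro g y hg hF v hv hgv
    have hm : g ∈ fixSub ρ (y * g * y⁻¹) := hF ▸ fun _ hw => hw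
    have h1 : ρ (y * g * y⁻¹) (ρ y v) = ρ y v := by
      rw [map_mul, map_mul, Module.End.mul_apply, Module.End.mul_apply, hback', hgv]
    exact fixed_unique ρ hperf hfaith hg hv hgv (hm _ h1)
  refine card_of_partition (fixSub ρ) hne (fun g v hv => hv) heq hconj ?_ ?_
  · intro g y y' hg hy hy' hny hny'
    obtain ⟨v, hv, hgv⟩ := exists_fixed ρ hperf hreal g
    have key : ∀ z, fixSub ρ (z * g * z⁻¹) = fixSub ρ g → z ∉ fixSub ρ g → ρ z v = -v := by
      intro z hz hnz
      obtain ⟨c, hc⟩ := hline g z hg hz v hv hgv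
      rcases mul_self_eq_one_iff.1 (scalar_sq ρ hperf hreal hfaith hg hv hgv hc) with rfl | rfl
      · refine absurd (fun w hw => ?_) hnz
        obtain ⟨d, rfl⟩ := fixed_unique ρ hperf hfaith hg hv hgv hw
        rw [map_smul, hc, one_smul]
      · rw [hc, neg_one_smul]
    intro w hw
    obtain ⟨d, rfl⟩ := fixed_unique ρ hperf hfaith hg hv hgv hw
    rw [map_smul, map_mul, Module.End.mul_apply, key y' hy' hny', ← key y hy hny, hback']
  · intro g hg hn
    obtain ⟨v, hv, hgv⟩ := exists_fixed ρ hperf hreal g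
    have hall : ∀ y, ∃ c : ℂ, ρ y v = c • v := fun y =>
      hline g y hg (heq g _ hg (hn.conj_mem g (fun _ hw => hw) y) (by simpa using hg)) v hv hgv
    rcases eq_top_or_bot ρ (ℂ ∙ v) (fun y w hw => by
      obtain ⟨d, rfl⟩ := Submodule.mem_span_singleton.1 hw
      obtain ⟨c, hc⟩ := hall y
      exact Submodule.mem_span_singleton.2 ⟨d * c, by rw [map_smul, hc, smul_smul]⟩) with h | h
    · exact hv (by simpa using h)
    · have h1 : Module.finrank ℂ (ℂ ∙ v) = 1 := finrank_span_singleton hv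
      rw [h, finrank_top, Module.finrank_fintype_fun_eq_card, Fintype.card_fin] at h1
      omega

end Real

end Finite

end Cfsg.Agent.Lib.DiffFour
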